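import Mathlib
import Groth.Prelude.Def_FDesc
import Groth.Agent.S2521

/-!
# Invariance of geometric reducedness of fibres under base change
-/

set_option autoImplicit false
set_option linter.style.haveILetI false

universe u

open CategoryTheory Limits AlgebraicGeometry

namespace Groth.Agent.GeomRedFlat5

variable {X Y : Scheme.{u}}

/-- The fibre of `f` through `x` is geometrically reduced at `x`. -/
abbrev E (f : X ⟶ Y) (x : X) : Prop :=
  FBase.IsGeomReducedAt (f.fiberToSpecResidueField (f.base x)) (f.asFiber x)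

/-- Base changes of a fibre. -/
theorem exists_bcIso (f : X ⟶ Y) (y : Y) {K : Type u} [Field K] [Algebra (IsLocalRing.ResidueField (Y.presheaf.stalk y)) K]
    (φ : Y.residueField y ⟶ CommRingCat.of K) (hφ : φ.hom = algebraMap (IsLocalRing.ResidueField (Y.presheaf.stalk y)) K) :
    ∃ e : FBase.bc (f.fiberToSpecResidueField y) K ≅ pullback f (Spec.map φ ≫ Y.fromSpecResidueField y),
      e.hom ≫ pullback.fst f _ = FBase.bcπ (f.fiberToSpecResidueField y) K ≫ f.fiberι y := by
  obtain rfl : φ = CommRingCat.ofHom (algebraMap (IsLocalRing.ResidueField (Y.presheaf.stalk y)) K) := CommRingCat.hom_ext hφ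
  have sq₁ : IsPullback (FBase.bcπ (f.fiberToSpecResidueField y) K) (FBase.bcStr (f.fiberToSpecResidueField y) K)
      (f.fiberToSpecResidueField y) (Spec.map (CommRingCat.ofHom (algebraMap (IsLocalRing.ResidueField (Y.presheaf.stalk y)) K))) :=
    IsPullback.of_hasPullback _ _
  have sq₂ := sq₁.paste_horiz (IsPullback.of_hasPullback f (Y.fromSpecResidueField y))
  exact ⟨sq₂.isoPullback, sq₂.isoPullback_hom_fst⟩

theorem isReduced_stalk_iff_of_iso {Z W : Scheme.{u}} (e : Z ⟶ W) [IsIso e] (z : Z) :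
    _root_.IsReduced (W.presheaf.stalk (e.base z)) ↔ _root_.IsReduced (Z.presheaf.stalk z) :=
  FBaseLib.isReduced_iff_of_bijective (e.stalkMap z) (ConcreteCategory.bijective_of_isIso _)

theorem isReduced_pullback_of_E {f : X ⟶ Y} {x : X} (h : E f x) (K : Type u) [Field K]
    (φ : Y.residueField (f.base x) ⟶ CommRingCat.of K)
    (z : ↥(pullback f (Spec.map φ ≫ Y.fromSpecResidueField (f.base x)))) (hz : (pullback.fst f _).base z = x) :
    _root_.IsReduced ((pullback f (Spec.map φ ≫ Y.fromSpecResidueField (f.base x))).presheaf.stalk z) := by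
  letI : Algebra (IsLocalRing.ResidueField (Y.presheaf.stalk (f.base x))) K := φ.hom.toAlgebra
  obtain ⟨e, he⟩ := exists_bcIso f (f.base x) φ rfl
  obtain ⟨v, rfl⟩ : ∃ v, e.hom.base v = z := e.hom.homeomorph.surjective z
  rw [isReduced_stalk_iff_of_iso]
  refine h K v ((f.fiberι (f.base x)).isEmbedding.injective ?_)
  rw [Scheme.Hom.fiberι_asFiber, ← Scheme.Hom.comp_apply, ← he, Scheme.Hom.comp_apply]
  exact hz

/-- One perfect field is enough. -/
theorem E_of_isReduced {f : X ⟶ Y} {x : X} (K : Type u) [Field K] [PerfectField K]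
    (φ : Y.residueField (f.base x) ⟶ CommRingCat.of K)
    (z : ↥(pullback f (Spec.map φ ≫ Y.fromSpecResidueField (f.base x)))) (hz : (pullback.fst f _).base z = x)
    (h : _root_.IsReduced ((pullback f (Spec.map φ ≫ Y.fromSpecResidueField (f.base x))).presheaf.stalk z)) :
    E f x := by
  letI : Algebra (IsLocalRing.ResidueField (Y.presheaf.stalk (f.base x))) K := φ.hom.toAlgebra
  obtain ⟨e, he⟩ := exists_bcIso f (f.base x) φ rfl
  obtain ⟨v, rfl⟩ : ∃ v, e.hom.base v = z := e.hom.homeomorph.surjective z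
  rw [isReduced_stalk_iff_of_iso] at h
  refine S2521.result (f.fiberToSpecResidueField (f.base x)) (f.asFiber x) v
    ((f.fiberι (f.base x)).isEmbedding.injective ?_) h
  rw [Scheme.Hom.fiberι_asFiber, ← Scheme.Hom.comp_apply, ← he, Scheme.Hom.comp_apply]
  exact hz

/-- A point of every extension of the residue field over `x`. -/
theorem exists_point (f : X ⟶ Y) (x : X) (K : Type u) [Field K] (φ : Y.residueField (f.base x) ⟶ CommRingCat.of K) :
    ∃ z : ↥(pullback f (Spec.map φ ≫ Y.fromSpecResidueField (f.base x))), (pullback.fst f _).base z = x := by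
  obtain ⟨z, hz, -⟩ := Scheme.Pullback.exists_preimage_pullback (f := f)
    (g := Spec.map φ ≫ Y.fromSpecResidueField (f.base x)) x (IsLocalRing.closedPoint K)
    (Y.fromSpecResidueField_apply (f.base x) _).symm
  exact ⟨z, hz⟩

/-- Geometric reducedness of fibres is invariant under base change. -/
theorem E_iff_of_isPullback {X' Y' : Scheme.{u}} {f : X ⟶ Y} {p : X' ⟶ X} {q : X' ⟶ Y'} {g : Y' ⟶ Y}
    (h : IsPullback p q f g) (z : X') : E q z ↔ E f (p.base z) := by
  have hgy : g (q z) = f (p z) := by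
    rw [← Scheme.Hom.comp_apply, ← h.w]; rfl
  let ρ : Y.residueField (f (p z)) ⟶ Y'.residueField (q z) := (Y.residueFieldCongr hgy).inv ≫ g.residueFieldMap (q z)
  have hρ : Spec.map ρ ≫ Y.fromSpecResidueField (f (p z)) = Y'.fromSpecResidueField (q z) ≫ g := by
    simp only [ρ, Spec.map_comp, Category.assoc, Scheme.residueFieldCongr_inv,
      Scheme.residueFieldCongr_fromSpecResidueField, Scheme.Hom.SpecMap_residueFieldMap_fromSpecResidueField]
  have main : ∀ (K : Type u) [Field K] (φ : Y'.residueField (q z) ⟶ CommRingCat.of K),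
      ∃ e : pullback q (Spec.map φ ≫ Y'.fromSpecResidueField (q z)) ≅
          pullback f (Spec.map (ρ ≫ φ) ≫ Y.fromSpecResidueField (f (p z))),
        e.hom ≫ pullback.fst f _ = pullback.fst q _ ≫ p := by
    intro K _ φ
    have hg : Spec.map (ρ ≫ φ) ≫ Y.fromSpecResidueField (f (p z)) =
        (Spec.map φ ≫ Y'.fromSpecResidueField (q z)) ≫ g := by
      rw [Spec.map_comp, Category.assoc, Category.assoc, hρ]
    have sq := (IsPullback.of_hasPullback q (Spec.map φ ≫ Y'.fromSpecResidueField (q z))).paste_horiz h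
    rw [← hg] at sq
    exact ⟨sq.isoPullback, sq.isoPullback_hom_fst⟩
  let Ω := AlgebraicClosure (IsLocalRing.ResidueField (Y'.presheaf.stalk (q z)))
  let φ : Y'.residueField (q z) ⟶ CommRingCat.of Ω :=
    CommRingCat.ofHom (algebraMap (IsLocalRing.ResidueField (Y'.presheaf.stalk (q z))) Ω)
  obtain ⟨e, he⟩ := main Ω φ
  obtain ⟨v, hv⟩ := exists_point q z Ω φ
  have hev : (pullback.fst f (Spec.map (ρ ≫ φ) ≫ Y.fromSpecResidueField (f (p z)))).base (e.hom.base v) = p z := by
    rw [← Scheme.Hom.comp_apply, he, Scheme.Hom.comp_apply, hv]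
  refine ⟨fun hq => E_of_isReduced Ω (ρ ≫ φ) (e.hom.base v) hev ?_, fun hf => E_of_isReduced Ω φ v hv ?_⟩
  · rw [isReduced_stalk_iff_of_iso]
    exact isReduced_pullback_of_E hq Ω φ v hv
  · rw [← isReduced_stalk_iff_of_iso e.hom]
    exact isReduced_pullback_of_E hf Ω (ρ ≫ φ) _ hev

/-- Open immersions on the source. -/
theorem E_comp_openImmersion {U : Scheme.{u}} (j : U ⟶ X) [IsOpenImmersion j] (f : X ⟶ Y) (u : U) :
    E (j ≫ f) u ↔ E f (j.base u) := by
  let Ω := AlgebraicClosure (IsLocalRing.ResidueField (Y.presheaf.stalk (f (j u))))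
  let φ : Y.residueField (f (j u)) ⟶ CommRingCat.of Ω :=
    CommRingCat.ofHom (algebraMap (IsLocalRing.ResidueField (Y.presheaf.stalk (f (j u)))) Ω)
  let g := Spec.map φ ≫ Y.fromSpecResidueField (f (j u))
  let m : pullback (j ≫ f) g ⟶ pullback f g :=
    (pullbackRightPullbackFstIso f g j).inv ≫ pullback.snd j (pullback.fst f g)
  haveI : IsOpenImmersion m := inferInstance
  have hm : m ≫ pullback.fst f g = pullback.fst (j ≫ f) g ≫ j := by
    simp only [m, Category.assoc]
    rw [← pullback.condition, pullbackRightPullbackFstIso_inv_fst_assoc]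
  obtain ⟨v, hv⟩ : ∃ v : ↥(pullback (j ≫ f) g), (pullback.fst (j ≫ f) g).base v = u :=
    exists_point (j ≫ f) u Ω φ
  have hmv : (pullback.fst f g).base (m.base v) = j u := by
    refine (Scheme.Hom.comp_apply m _ v).symm.trans ((congrArg (fun m' : _ ⟶ X => m'.base v) hm).trans ?_)
    exact congrArg j.base hv
  have hiff := FBaseLib.isReduced_iff_of_bijective (m.stalkMap v) (ConcreteCategory.bijective_of_isIso _)
  exact ⟨fun h => E_of_isReduced Ω φ (m.base v) hmv (hiff.2 (isReduced_pullback_of_E h Ω φ v hv)),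
    fun h => E_of_isReduced (f := j ≫ f) (x := u) Ω φ v hv (hiff.1 (isReduced_pullback_of_E h Ω φ _ hmv))⟩

end Groth.Agent.GeomRedFlat5
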