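import Mathlib
import Groth.Agent.GeomRedFlat5.Inv
import Groth.Agent.FlatMisc.SpreadGeomRed

/-!
# Geometric reducedness spreads out along an irreducible base
-/

set_option autoImplicit false
set_option linter.style.haveILetI false

universe u

open CategoryTheory Limits AlgebraicGeometry TensorProduct IsLocalRing

namespace Groth.Agent.GeomRedFlat5

theorem exists_factor_field {Y : Scheme.{u}} {K : Type u} [Field K] (g : Spec (CommRingCat.of K) ⟶ Y) {y : Y}
    (hy : g.base (closedPoint K) = y) :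
    ∃ φ : Y.residueField y ⟶ CommRingCat.of K, Spec.map φ ≫ Y.fromSpecResidueField y = g := by
  refine ⟨(Y.residueFieldCongr hy).inv ≫ Scheme.descResidueField (Scheme.stalkClosedPointTo g), ?_⟩
  rw [Spec.map_comp, Category.assoc, Scheme.residueFieldCongr_inv, Scheme.residueFieldCongr_fromSpecResidueField]
  exact Scheme.descResidueField_stalkClosedPointTo_fromSpecResidueField K Y g

theorem base_closedPoint_eq {X Y : Scheme.{u}} (f : X ⟶ Y) {K : Type u} [Field K] (g : Spec (CommRingCat.of K) ⟶ Y)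
    (z : ↥(pullback f g)) {x : X} (hz : (pullback.fst f g).base z = x) : g.base (closedPoint K) = f.base x := by
  have h1 : (pullback.snd f g).base z = closedPoint K := Subsingleton.elim (α := PrimeSpectrum K) _ _
  rw [← hz, ← h1, ← Scheme.Hom.comp_apply, ← pullback.condition, Scheme.Hom.comp_apply]

theorem isReduced_pullback_field {X Y : Scheme.{u}} {f : X ⟶ Y} {x : X} (h : E f x) {K : Type u} [Field K]
    (g : Spec (CommRingCat.of K) ⟶ Y) (z : ↥(pullback f g)) (hz : (pullback.fst f g).base z = x) :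
    _root_.IsReduced ((pullback f g).presheaf.stalk z) := by
  obtain ⟨φ, rfl⟩ := exists_factor_field g (base_closedPoint_eq f g z hz)
  exact isReduced_pullback_of_E h K φ z hz

theorem E_of_isReduced_field {X Y : Scheme.{u}} {f : X ⟶ Y} {x : X} {K : Type u} [Field K] [PerfectField K]
    (g : Spec (CommRingCat.of K) ⟶ Y) (z : ↥(pullback f g)) (hz : (pullback.fst f g).base z = x)
    (h : _root_.IsReduced ((pullback f g).presheaf.stalk z)) : E f x := by
  obtain ⟨φ, rfl⟩ := exists_factor_field g (base_closedPoint_eq f g z hz)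
  exact E_of_isReduced K φ z hz h

section Alg

variable {A B : Type u} [CommRing A] [CommRing B] [Algebra A B]

/-- Reduced local rings over a prime spread to a basic open. -/
theorem exists_isReduced_away [IsDomain A] [IsNoetherianRing A] [Algebra.FiniteType A B] (K : Type u) [Field K]
    [Algebra A K] [IsFractionRing A K] (Ω : Type u) [Field Ω] [Algebra A Ω] [Algebra K Ω] [IsScalarTower A K Ω]
    [Algebra.IsAlgebraic K Ω]
    (P : Ideal B) [P.IsPrime] (hP : P.comap (algebraMap A B) = ⊥)
    (H : ∀ W : Ideal (B ⊗[A] Ω), ∀ [W.IsPrime], W.comap (algebraMap B (B ⊗[A] Ω)) = P →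
      _root_.IsReduced (Localization.AtPrime W)) :
    ∃ h ∉ P, _root_.IsReduced (Localization.Away (algebraMap B (B ⊗[A] Ω) h)) := by
  let R := B ⊗[A] Ω
  haveI : IsNoetherianRing (Ω ⊗[A] B) := Algebra.EssFiniteType.isNoetherianRing Ω _
  haveI : IsNoetherianRing R :=
    isNoetherianRing_of_ringEquiv (Ω ⊗[A] B) (Algebra.TensorProduct.comm A Ω B).toRingEquiv
  let J : Ideal R := Submodule.annihilator (nilradical R)
  suffices ∃ h ∉ P, algebraMap B R h ∈ J by
    obtain ⟨h, hh, hJ⟩ := this
    refine ⟨h, hh, ⟨fun z hz => ?_⟩⟩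
    obtain ⟨⟨a, _, m, rfl⟩, ha⟩ := IsLocalization.surj (Submonoid.powers (algebraMap B R h)) z
    obtain ⟨n, hn⟩ := hz
    have h0 : algebraMap R (Localization.Away (algebraMap B R h)) (a ^ (n + 1)) = 0 := by
      rw [map_pow, ← ha, mul_pow, pow_succ z, hn, zero_mul, zero_mul]
    obtain ⟨⟨_, k, rfl⟩, hk⟩ := (IsLocalization.map_eq_zero_iff (Submonoid.powers (algebraMap B R h)) _ _).1 h0
    replace hk : algebraMap B R h ^ k * a ^ (n + 1) = 0 := hk
    have hnil : algebraMap B R h ^ k * a ∈ nilradical R := mem_nilradical.2 ⟨n + 1, by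
      rw [mul_pow, pow_succ (algebraMap B R h ^ k), mul_assoc, hk, mul_zero]⟩
    have h1 : algebraMap B R h * (algebraMap B R h ^ k * a) = 0 := Submodule.mem_annihilator.1 hJ _ hnil
    have hu : IsUnit (algebraMap R (Localization.Away (algebraMap B R h)) (algebraMap B R h)) :=
      IsLocalization.Away.algebraMap_isUnit _
    have h2 := congrArg (algebraMap R (Localization.Away (algebraMap B R h))) h1
    rw [map_mul, map_mul, map_pow, map_zero, ← ha] at h2
    exact ((IsLocalization.map_units _ (⟨_, m, rfl⟩ : Submonoid.powers (algebraMap B R h))).mul_left_eq_zero).1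
      ((hu.pow k).mul_right_eq_zero.1 (hu.mul_right_eq_zero.1 h2))
  by_contra hcon
  push Not at hcon
  obtain ⟨W, hW, hJW, hdisj⟩ := Ideal.exists_le_prime_disjoint J (P.primeCompl.map (algebraMap B R).toMonoidHom)
    (Set.disjoint_left.2 fun r hr hr' => by
      obtain ⟨b, hb, rfl⟩ := hr'
      exact hcon b hb hr)
  haveI := hW
  -- the generic fibre
  let BK := B ⊗[A] K
  let θ : BK →ₐ[A] R := Algebra.TensorProduct.map (AlgHom.id A B) (IsScalarTower.toAlgHom A K Ω)
  letI : Algebra BK R := θ.toRingHom.toAlgebra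
  have hθt : ∀ (b : B) (k : K), algebraMap BK R (b ⊗ₜ[A] k) = b ⊗ₜ[A] algebraMap K Ω k := fun _ _ => rfl
  have hθ1 : ∀ b : B, algebraMap BK R (b ⊗ₜ[A] (1 : K)) = algebraMap B R b := fun b => by
    rw [hθt, map_one]; rfl
  haveI : Algebra.IsIntegral BK R := by
    refine ⟨fun y => ?_⟩
    induction y using TensorProduct.induction_on with
    | zero => exact isIntegral_zero
    | add a b ha hb => exact ha.add hb
    | tmul b ω =>
      rw [show b ⊗ₜ[A] ω = b ⊗ₜ[A] (1 : Ω) * (1 : B) ⊗ₜ[A] ω by simp]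
      refine IsIntegral.mul ?_ ?_
      · rw [show b ⊗ₜ[A] (1 : Ω) = algebraMap BK R (b ⊗ₜ 1) from (hθ1 b).symm]
        exact isIntegral_algebraMap
      · exact IsIntegral.map_of_comp_eq (Algebra.TensorProduct.includeRight : K →ₐ[A] BK).toRingHom
          (Algebra.TensorProduct.includeRight : Ω →ₐ[A] R).toRingHom (RingHom.ext fun c => hθt 1 c) (Algebra.IsAlgebraic.isAlgebraic (R := K) ω).isIntegral
  let κ := P.ResidueField
  have hAκ : Function.Injective (algebraMap A κ) := by
    rw [injective_iff_map_eq_zero]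
    intro a ha
    rw [IsScalarTower.algebraMap_apply A B κ, Ideal.algebraMap_residueField_eq_zero] at ha
    exact (Ideal.mem_bot).1 (hP ▸ (show a ∈ P.comap (algebraMap A B) from ha))
  let l : K →ₐ[A] κ := IsFractionRing.liftAlgHom (A := A) (K := K) (g := Algebra.ofId A κ) hAκ
  let π : BK →ₐ[A] κ := Algebra.TensorProduct.lift (IsScalarTower.toAlgHom A B κ) l (fun _ _ => Commute.all _ _)
  let PK : Ideal BK := RingHom.ker π.toRingHom
  haveI : PK.IsPrime := RingHom.ker_isPrime _
  have hclear : ∀ y : BK, ∃ (a : A) (b : B), a ≠ 0 ∧ y * ((1 : B) ⊗ₜ[A] algebraMap A K a) = b ⊗ₜ 1 := by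
    intro y
    induction y using TensorProduct.induction_on with
    | zero => exact ⟨1, 0, one_ne_zero, by simp⟩
    | tmul b c =>
      obtain ⟨n, d, hd, rfl⟩ := IsFractionRing.div_surjective (A := A) c
      refine ⟨d, n • b, nonZeroDivisors.ne_zero hd, ?_⟩
      rw [Algebra.TensorProduct.tmul_mul_tmul, mul_one,
        div_mul_cancel₀ _ (IsFractionRing.to_map_ne_zero_of_mem_nonZeroDivisors hd), smul_tmul, Algebra.smul_def,
        mul_one]
    | add y₁ y₂ h₁ h₂ =>
      obtain ⟨a₁, b₁, ha₁, hb₁⟩ := h₁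
      obtain ⟨a₂, b₂, ha₂, hb₂⟩ := h₂
      refine ⟨a₁ * a₂, a₂ • b₁ + a₁ • b₂, mul_ne_zero ha₁ ha₂, ?_⟩
      have hs : ∀ a : A, ∀ b : B, (a • b) ⊗ₜ[A] (1 : K) = b ⊗ₜ 1 * (1 : B) ⊗ₜ algebraMap A K a := fun a b => by
        rw [Algebra.TensorProduct.tmul_mul_tmul, mul_one, one_mul, smul_tmul, Algebra.smul_def, mul_one]
      rw [add_tmul, hs, hs, ← hb₁, ← hb₂, map_mul,
        show (1 : B) ⊗ₜ[A] (algebraMap A K a₁ * algebraMap A K a₂) =
          (1 : B) ⊗ₜ algebraMap A K a₁ * (1 : B) ⊗ₜ algebraMap A K a₂ by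
            rw [Algebra.TensorProduct.tmul_mul_tmul, mul_one]]
      ring
  have hle : W.comap (algebraMap BK R) ≤ PK := by
    intro y hy
    obtain ⟨a, b, ha, hab⟩ := hclear y
    have h1 : algebraMap B R b ∈ W := by
      have h2 := W.mul_mem_right (algebraMap BK R ((1 : B) ⊗ₜ algebraMap A K a)) hy
      rw [← map_mul, hab] at h2
      rwa [hθ1] at h2
    have hbP : b ∈ P := by_contra fun hb => Set.disjoint_left.1 hdisj h1 ⟨b, hb, rfl⟩
    have h3 := congrArg π hab
    rw [map_mul, Algebra.TensorProduct.lift_tmul, Algebra.TensorProduct.lift_tmul, map_one, map_one, one_mul, mul_one,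
      AlgHom.commutes, IsScalarTower.coe_toAlgHom', Ideal.algebraMap_residueField_eq_zero.2 hbP] at h3
    rw [RingHom.mem_ker]
    exact (mul_eq_zero.1 h3).resolve_right ((map_ne_zero_iff _ hAκ).2 ha)
  obtain ⟨W', hWW', hW', hW'P⟩ := Ideal.exists_ideal_over_prime_of_isIntegral PK W hle
  haveI : W'.IsPrime := hW'
  have hW'B : W'.comap (algebraMap B R) = P := by
    ext b
    have e : algebraMap B R b = algebraMap BK R (b ⊗ₜ 1) := (hθ1 b).symm
    rw [Ideal.mem_comap, e, ← Ideal.mem_comap, hW'P, RingHom.mem_ker]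
    show π (b ⊗ₜ 1) = 0 ↔ _
    rw [Algebra.TensorProduct.lift_tmul, map_one, mul_one]
    exact Ideal.algebraMap_residueField_eq_zero
  haveI := H W' hW'B
  -- the annihilator is not contained in `W'`
  obtain ⟨s, hs⟩ := (IsNoetherian.noetherian (nilradical R) : (nilradical R).FG)
  have hkill : ∀ z ∈ s, ∃ u ∉ W', u * z = 0 := fun z hz => by
    have hz' : IsNilpotent z := mem_nilradical.1 (hs ▸ Ideal.subset_span hz)
    obtain ⟨u, hu⟩ := (IsLocalization.map_eq_zero_iff W'.primeCompl (Localization.AtPrime W') z).1 (hz'.map _).eq_zero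
    exact ⟨u, u.2, hu⟩
  choose! u hu hu0 using hkill
  refine (W'.primeCompl.prod_mem (fun z hz => hu z hz) : (∏ z ∈ s, u z) ∈ W'.primeCompl) (hWW' (hJW ?_))
  show _ ∈ Submodule.annihilator (nilradical R)
  rw [← hs, Submodule.mem_annihilator_span]
  rintro ⟨z, hz⟩
  obtain ⟨d, hd⟩ := Finset.dvd_prod_of_mem u hz
  rw [smul_eq_mul, hd, mul_right_comm, hu0 z hz, zero_mul]

end Alg

/-- Near a geometrically reduced point of the generic fibre the fibres are geometrically reduced. -/
theorem E_near_generic {A : CommRingCat.{u}} [IsDomain A] [IsNoetherianRing A] {B : CommRingCat.{u}} (φ : A ⟶ B)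
    (hφ : φ.hom.FiniteType) (q : Spec B) (hq : (Spec.map φ).base q = (⟨⊥, Ideal.isPrime_bot⟩ : PrimeSpectrum A))
    (hE : E (Spec.map φ) q) : ∃ O : Set (Spec B), IsOpen O ∧ q ∈ O ∧ ∀ q' ∈ O, E (Spec.map φ) q' := by
  letI : Algebra A B := φ.hom.toAlgebra
  haveI : Algebra.FiniteType A B := hφ
  let q₀ : PrimeSpectrum B := q
  have hqA : q₀.asIdeal.comap (algebraMap A B) = ⊥ := congrArg PrimeSpectrum.asIdeal hq
  let K := FractionRing A
  let Ω := AlgebraicClosure K
  have key : ∀ (L : Type u) [Field L] [Algebra A L] (P : PrimeSpectrum (B ⊗[A] L)),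
      ∃ z : ↥(pullback (Spec.map φ) (Spec.map (CommRingCat.ofHom (algebraMap A L)))),
        (pullback.fst (Spec.map φ) (Spec.map (CommRingCat.ofHom (algebraMap A L)))).base z =
          PrimeSpectrum.comap (algebraMap B (B ⊗[A] L)) P ∧
        (_root_.IsReduced ((pullback (Spec.map φ) (Spec.map (CommRingCat.ofHom (algebraMap A L)))).presheaf.stalk z) ↔
          _root_.IsReduced (Localization.AtPrime P.asIdeal)) := by
    intro L _ _ P
    let P' : Spec (CommRingCat.of (B ⊗[A] L)) := P
    refine ⟨(pullbackSpecIso A B L).inv.base P', ?_, ?_⟩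
    · exact (Scheme.Hom.comp_apply (pullbackSpecIso A B L).inv _ P').symm.trans
        (congrArg (fun m : _ ⟶ Spec B => m.base P') (pullbackSpecIso_inv_fst' A B L))
    · exact (isReduced_stalk_iff_of_iso (pullbackSpecIso A B L).inv P').trans
        (FBaseLib.isReduced_iff_of_bijective (Spec.stalkIso (CommRingCat.of (B ⊗[A] L)) P').hom
          (ConcreteCategory.bijective_of_isIso _))
  obtain ⟨h, hh, hred⟩ := exists_isReduced_away K Ω q₀.asIdeal hqA fun W _ hW => by
    obtain ⟨z, hz, hiff⟩ := key Ω ⟨W, inferInstance⟩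
    exact hiff.1 (isReduced_pullback_field hE _ z (hz.trans (PrimeSpectrum.ext hW)))
  let C := Localization.Away h
  have hCL : ∀ (L : Type u) [Field L] [Algebra A L],
      _root_.IsReduced (Localization.Away (algebraMap B (B ⊗[A] L) h)) ↔ _root_.IsReduced (L ⊗[A] C) := by
    intro L _ _
    let e1 : L ⊗[A] C ≃+* Localization.Away ((1 : L) ⊗ₜ[A] h : L ⊗[A] B) :=
      (IsLocalization.Away.tensorProductEquivTMulRight A L h C).toRingEquiv
    let e2 : Localization.Away (algebraMap B (B ⊗[A] L) h) ≃+* Localization.Away ((1 : L) ⊗ₜ[A] h : L ⊗[A] B) :=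
      IsLocalization.ringEquivOfRingEquiv (M := Submonoid.powers (algebraMap B (B ⊗[A] L) h))
        (T := Submonoid.powers ((1 : L) ⊗ₜ[A] h : L ⊗[A] B)) _ _ (Algebra.TensorProduct.comm A B L).toRingEquiv
        (by rw [Submonoid.map_powers]; congr 1)
    exact ⟨fun _ => isReduced_of_injective (e1.trans e2.symm) (RingEquiv.injective _),
      fun _ => isReduced_of_injective (e2.trans e1.symm) (RingEquiv.injective _)⟩
  haveI : Algebra.FiniteType A C := by
    haveI : Algebra.FinitePresentation B C := IsLocalization.Away.finitePresentation h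
    exact Algebra.FiniteType.trans (S := B) inferInstance inferInstance
  haveI : Algebra.IsGeometricallyReduced K (K ⊗[A] C) := by
    rw [Algebra.isGeometricallyReduced_field_iff]
    haveI := (hCL Ω).1 hred
    exact isReduced_of_injective (Algebra.TensorProduct.cancelBaseChange A K Ω Ω C) (AlgEquiv.injective _)
  obtain ⟨c, hc, hnear⟩ := FlatMisc.SpreadRed.exists_reduced_near (R := A) (S := C) K
  refine ⟨(PrimeSpectrum.basicOpen (h * algebraMap A B c) : Set (PrimeSpectrum B)),
    PrimeSpectrum.isOpen_basicOpen, ?_, fun q' hq' => ?_⟩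
  · exact fun hmem => ((q₀.2.mem_or_mem hmem).resolve_left hh) |> fun h1 => hc (by
      have h2 : c ∈ q₀.asIdeal.comap (algebraMap A B) := h1
      rwa [hqA, Ideal.mem_bot] at h2)
  · let q₁ : PrimeSpectrum B := q'
    have hh' : h ∉ q₁.asIdeal := fun hm => hq' (q₁.asIdeal.mul_mem_right _ hm)
    have hc' : algebraMap A B c ∉ q₁.asIdeal := fun hm => hq' (q₁.asIdeal.mul_mem_left _ hm)
    let L := AlgebraicClosure q₁.asIdeal.ResidueField
    let ψ : B ⊗[A] L →ₐ[A] L :=
      Algebra.TensorProduct.lift (IsScalarTower.toAlgHom A B L) (AlgHom.id A L) (fun _ _ => Commute.all _ _)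
    let P : PrimeSpectrum (B ⊗[A] L) := ⟨RingHom.ker ψ.toRingHom, RingHom.ker_isPrime _⟩
    have hP : ∀ b, algebraMap B (B ⊗[A] L) b ∈ P.asIdeal ↔ b ∈ q₁.asIdeal := fun b => by
      rw [RingHom.mem_ker]
      show ψ (b ⊗ₜ 1) = 0 ↔ _
      rw [Algebra.TensorProduct.lift_tmul, map_one, mul_one, IsScalarTower.coe_toAlgHom',
        IsScalarTower.algebraMap_apply B q₁.asIdeal.ResidueField L, map_eq_zero,
        Ideal.algebraMap_residueField_eq_zero]
    obtain ⟨z, hz, hiff⟩ := key L P
    refine E_of_isReduced_field _ z (hz.trans (PrimeSpectrum.ext (Ideal.ext hP))) (hiff.2 ?_)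
    haveI : _root_.IsReduced (L ⊗[A] C) := hnear L (by
      rw [IsScalarTower.algebraMap_apply A B L, IsScalarTower.algebraMap_apply B q₁.asIdeal.ResidueField L, ne_eq,
        map_eq_zero, Ideal.algebraMap_residueField_eq_zero]
      exact hc')
    haveI := (hCL L).2 inferInstance
    haveI : P.asIdeal.IsPrime := P.2
    let T := Localization.Away (algebraMap B (B ⊗[A] L) h)
    letI : Algebra T (Localization.AtPrime P.asIdeal) :=
      (IsLocalization.map (M := Submonoid.powers (algebraMap B (B ⊗[A] L) h)) (T := P.asIdeal.primeCompl)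
        (Localization.AtPrime P.asIdeal) (RingHom.id _)
        (Submonoid.powers_le.2 fun hm => hh' ((hP h).1 hm))).toAlgebra
    haveI : IsScalarTower (B ⊗[A] L) T (Localization.AtPrime P.asIdeal) :=
      IsScalarTower.of_algebraMap_eq fun y => by rw [RingHom.algebraMap_toAlgebra, IsLocalization.map_eq]; rfl
    haveI hloc := IsLocalization.isLocalization_of_submonoid_le T (Localization.AtPrime P.asIdeal)
      (Submonoid.powers (algebraMap B (B ⊗[A] L) h)) P.asIdeal.primeCompl
      (Submonoid.powers_le.2 fun hm => hh' ((hP h).1 hm))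
    exact @isReduced_localizationPreserves T _ _ (Localization.AtPrime P.asIdeal) _ _ hloc (inferInstance : _root_.IsReduced T) --(Localization.AtPrime P.asIdeal) (inferInstance : _root_.IsReduced T)

end Groth.Agent.GeomRedFlat5
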