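import Mathlib
import Groth.Prelude.Def_FDesc
import Groth.Agent.GeomField.Reduced
import Groth.Agent.FlatDvr.FibreStalk

/-!
# The local ring of a fibre and geometric reducedness
-/

set_option autoImplicit false
set_option linter.style.haveILetI false

universe u

open CategoryTheory Limits AlgebraicGeometry IsLocalRing TensorProduct

namespace Groth.Agent.GeomRedFlat5

theorem fromSpecStalk_comp_eq {F : Scheme.{u}} {k : Type u} [CommRing k] (t : F ⟶ Spec (CommRingCat.of k)) (w : F) :
    F.fromSpecStalk w ≫ t = Spec.map ((Scheme.ΓSpecIso (CommRingCat.of k)).inv ≫ t.appTop ≫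
      F.presheaf.germ ⊤ w trivial) := by
  have h1 : t = F.toSpecΓ ≫ Spec.map t.appTop ≫ Spec.map (Scheme.ΓSpecIso (CommRingCat.of k)).inv := by
    rw [← Scheme.toSpecΓ_naturality_assoc, ← SpecMap_ΓSpecIso_hom, ← Spec.map_comp, Iso.inv_hom_id, Spec.map_id,
      Category.comp_id]
  conv_lhs => rw [h1]
  rw [Scheme.fromSpecStalk_toSpecΓ_assoc, ← Spec.map_comp, ← Spec.map_comp, Category.assoc]

variable {X Y : Scheme.{u}} (f : X ⟶ Y)

theorem ker_specializes {y : Y} (w : ↥(f.fiber y)) {x : X} (e : f.fiberι y w = x) :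
    RingHom.ker (X.presheaf.stalkSpecializes (specializes_of_eq e) ≫ (f.fiberι y).stalkMap w).hom =
      (maximalIdeal (Y.presheaf.stalk (f x))).map (f.stalkMap x).hom := by
  subst e
  rw [TopCat.Presheaf.stalkSpecializes_refl, Category.id_comp]
  exact FlatDvr.ker_stalkMap_fiberι f w

theorem surjective_specializes {y : Y} (w : ↥(f.fiber y)) {x : X} (e : f.fiberι y w = x) :
    Function.Surjective (X.presheaf.stalkSpecializes (specializes_of_eq e) ≫ (f.fiberι y).stalkMap w).hom := by
  subst e
  rw [TopCat.Presheaf.stalkSpecializes_refl, Category.id_comp]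
  exact (f.fiberι y).stalkMap_surjective w

/-- Geometric reducedness of a fibre at a point, in terms of local rings. -/
theorem isGeomReducedAt_fibre_iff (x : X) [Algebra (Y.presheaf.stalk (f.base x)) (X.presheaf.stalk x)]
    (hS : algebraMap (Y.presheaf.stalk (f.base x)) (X.presheaf.stalk x) = (f.stalkMap x).hom) :
    FBase.IsGeomReducedAt (f.fiberToSpecResidueField (f.base x)) (f.asFiber x) ↔
      Algebra.IsGeometricallyReduced (ResidueField (Y.presheaf.stalk (f.base x)))
        (ResidueField (Y.presheaf.stalk (f.base x)) ⊗[Y.presheaf.stalk (f.base x)] X.presheaf.stalk x) := by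
  let A := Y.presheaf.stalk (f.base x)
  let κ := ResidueField A
  let F := f.fiber (f.base x)
  let t : F ⟶ Spec (CommRingCat.of κ) := f.fiberToSpecResidueField (f.base x)
  letI : F.Over (Spec (CommRingCat.of κ)) := ⟨t⟩
  let w : F := f.asFiber x
  letI := Curv2.stalkAlgebra κ F w
  have e : f.fiberι (f.base x) w = x := f.fiberι_asFiber x
  let j := X.presheaf.stalkSpecializes (specializes_of_eq e) ≫ (f.fiberι (f.base x)).stalkMap w
  let σ : Y.residueField (f.base x) ⟶ F.presheaf.stalk w := CommRingCat.ofHom (Curv2.stalkMap κ F w)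
  have hσ : F.fromSpecStalk w ≫ t = Spec.map σ := by
    rw [fromSpecStalk_comp_eq]; rfl
  have key : f.stalkMap x ≫ j = Y.residue (f.base x) ≫ σ := by
    apply Spec.map_injective
    rw [← cancel_mono (Y.fromSpecStalk (f.base x))]
    have l : (Spec.map j ≫ Spec.map (f.stalkMap x)) ≫ Y.fromSpecStalk (f.base x) =
        F.fromSpecStalk w ≫ f.fiberι (f.base x) ≫ f := by
      rw [Category.assoc, Scheme.SpecMap_stalkMap_fromSpecStalk, Spec.map_comp, Category.assoc,
        Scheme.SpecMap_stalkSpecializes_fromSpecStalk_assoc, Scheme.SpecMap_stalkMap_fromSpecStalk_assoc]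
    rw [Spec.map_comp, l]
    refine Eq.trans ?_ ((Category.assoc _ _ _).symm.trans (congrArg (· ≫ _) (Spec.map_comp _ _).symm))
    show F.fromSpecStalk w ≫ f.fiberι (f.base x) ≫ f = Spec.map σ ≫ Y.fromSpecResidueField (f.base x)
    refine Eq.trans ?_ (congrArg (· ≫ Y.fromSpecResidueField (f.base x)) hσ)
    exact (congrArg (F.fromSpecStalk w ≫ ·) (f.fiber_fac (f.base x))).trans (Category.assoc _ _ _).symm
  letI : Algebra A (F.presheaf.stalk w) := ((algebraMap κ (F.presheaf.stalk w)).comp (residue A)).toAlgebra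
  haveI : IsScalarTower A κ (F.presheaf.stalk w) := IsScalarTower.of_algebraMap_eq fun _ => rfl
  let jA : X.presheaf.stalk x →ₐ[A] F.presheaf.stalk w :=
    { j.hom with
      commutes' := fun a => by
        show j.hom (algebraMap A (X.presheaf.stalk x) a) = _
        rw [hS]
        exact congr($key a) }
  let θ : κ ⊗[A] X.presheaf.stalk x →ₐ[κ] F.presheaf.stalk w :=
    Algebra.TensorProduct.lift (Algebra.ofId κ _) jA (fun _ _ => Commute.all _ _)
  have hθr : ∀ s, θ (1 ⊗ₜ s) = j.hom s := fun s => by
    show algebraMap κ _ 1 * jA s = _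
    rw [map_one, one_mul]; rfl
  have hone : ∀ z : κ ⊗[A] X.presheaf.stalk x, ∃ s, z = 1 ⊗ₜ s := by
    intro z
    induction z using TensorProduct.induction_on with
    | zero => exact ⟨0, by simp⟩
    | tmul r s =>
      obtain ⟨a, rfl⟩ := IsLocalRing.residue_surjective r
      exact ⟨a • s, by rw [← smul_tmul, Algebra.smul_def, mul_one]; rfl⟩
    | add a b ha hb =>
      obtain ⟨a, rfl⟩ := ha
      obtain ⟨b, rfl⟩ := hb
      exact ⟨a + b, (tmul_add _ _ _).symm⟩
  have hinj : Function.Injective θ := by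
    rw [injective_iff_map_eq_zero]
    intro z hz
    obtain ⟨s, rfl⟩ := hone z
    rw [hθr] at hz
    have hs : s ∈ (maximalIdeal A).map (f.stalkMap x).hom := by
      rw [← ker_specializes f w e]; exact hz
    have hle : (maximalIdeal A).map (f.stalkMap x).hom ≤
        RingHom.ker (Algebra.TensorProduct.includeRight : X.presheaf.stalk x →ₐ[A] κ ⊗[A] X.presheaf.stalk x).toRingHom := by
      rw [Ideal.map_le_iff_le_comap]
      intro a ha
      rw [Ideal.mem_comap, RingHom.mem_ker, ← hS]
      show (1 : κ) ⊗ₜ[A] algebraMap A _ a = 0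
      rw [Algebra.algebraMap_eq_smul_one, tmul_smul, smul_tmul', Algebra.smul_def, mul_one,
        show algebraMap A κ a = 0 from (IsLocalRing.residue_eq_zero_iff a).2 ha, zero_tmul]
    exact hle hs
  have hsurj : Function.Surjective θ := fun v => by
    obtain ⟨s, hs⟩ := surjective_specializes f w e v
    exact ⟨1 ⊗ₜ s, (hθr s).trans hs⟩
  let eθ := AlgEquiv.ofBijective θ ⟨hinj, hsurj⟩
  refine Iff.trans (show _ ↔ Algebra.IsGeometricallyReduced κ (F.presheaf.stalk w) from
    GeomField.isGeomReducedAt_iff (k := κ) (X := F) w) ⟨fun h => ?_, fun h => ?_⟩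
  · exact Algebra.IsGeometricallyReduced.of_injective eθ.toAlgHom eθ.injective
  · haveI : Algebra.IsGeometricallyReduced κ (κ ⊗[A] X.presheaf.stalk x) := h
    exact Algebra.IsGeometricallyReduced.of_injective eθ.symm.toAlgHom eθ.symm.injective

end Groth.Agent.GeomRedFlat5
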