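import Mathlib

/-!
# Reduced special fibre over a discrete valuation ring
-/

set_option autoImplicit false
set_option linter.style.haveILetI false

universe u

open IsLocalRing

namespace Groth.Agent.GeomRedFlat5

/-- Flat over a discrete valuation ring with reduced special fibre: nilpotents die at points of the special fibre. -/
theorem exists_smul_eq_zero_of_isNilpotent {V W : Type u} [CommRing V] [IsDomain V] [IsDiscreteValuationRing V]
    [CommRing W] [IsNoetherianRing W] [Algebra V W] [Module.Flat V W]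
    (hred : _root_.IsReduced (W ⧸ (maximalIdeal V).map (algebraMap V W)))
    (M : Ideal W) [M.IsPrime] (hM : (maximalIdeal V).map (algebraMap V W) ≤ M) {y : W} (hy : IsNilpotent y) :
    ∃ u ∉ M, u * y = 0 := by
  obtain ⟨π, hπ⟩ := IsDiscreteValuationRing.exists_irreducible V
  let t := algebraMap V W π
  have hmap : (maximalIdeal V).map (algebraMap V W) = Ideal.span {t} := by
    rw [(IsDiscreteValuationRing.irreducible_iff_uniformizer π).1 hπ, Ideal.map_span, Set.image_singleton]
  have hreg : ∀ (e : ℕ) (w : W), t ^ e * w = 0 → w = 0 := fun e w h => by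
    have hinj : Function.Injective fun v : V => π ^ e * v := mul_right_injective₀ (pow_ne_zero _ hπ.ne_zero)
    have hf := Module.Flat.lTensor_preserves_injective_linearMap (M := W) (LinearMap.lsmul V V (π ^ e))
      (fun a b hab => hinj hab)
    have h2 : (LinearMap.lsmul V V (π ^ e)).lTensor W (w ⊗ₜ[V] 1) = 0 := by
      rw [LinearMap.lTensor_tmul, LinearMap.lsmul_apply, TensorProduct.tmul_smul, TensorProduct.smul_tmul',
        Algebra.smul_def, map_pow, show algebraMap V W π ^ e * w = 0 from h, TensorProduct.zero_tmul]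
    simpa using congrArg (TensorProduct.rid V W) (hf (h2.trans (map_zero _).symm))
  let L := Localization.AtPrime M
  have hN : nilradical L ≤ maximalIdeal L • nilradical L := by
    intro z hz
    obtain ⟨⟨a, s⟩, has⟩ := IsLocalization.surj M.primeCompl z
    obtain ⟨n, hn⟩ := mem_nilradical.1 hz
    have h0 : algebraMap W L (a ^ (n + 1)) = 0 := by
      rw [map_pow, ← has, mul_pow, pow_succ z, hn, zero_mul, zero_mul]
    obtain ⟨v, hv⟩ := (IsLocalization.map_eq_zero_iff M.primeCompl L _).1 h0
    have hva : IsNilpotent ((v : W) * a) := ⟨n + 1, by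
      rw [mul_pow, pow_succ (v : W), mul_assoc, hv, mul_zero]⟩
    have hq : Ideal.Quotient.mk ((maximalIdeal V).map (algebraMap V W)) ((v : W) * a) = 0 := by
      haveI := hred
      exact (hva.map _).eq_zero
    rw [Ideal.Quotient.eq_zero_iff_mem, hmap, Ideal.mem_span_singleton'] at hq
    obtain ⟨c, hc⟩ := hq
    obtain ⟨m, hm⟩ := hva
    have hc0 : IsNilpotent c := ⟨m, hreg m _ (by rw [← mul_pow, mul_comm, hc, hm])⟩
    have hu := ((IsLocalization.map_units L s).mul (IsLocalization.map_units L v)).unit
    have key : z * (algebraMap W L s * algebraMap W L v) = algebraMap W L t * algebraMap W L c := by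
      rw [← map_mul _ t, mul_comm t, hc, map_mul, ← has]; ring
    obtain ⟨w, hw⟩ := isUnit_iff_exists_inv.1 ((IsLocalization.map_units L s).mul (IsLocalization.map_units L v))
    rw [show z = algebraMap W L t * (algebraMap W L c * w) by
      rw [← mul_assoc, ← key, mul_assoc, hw, mul_one]]
    refine Submodule.smul_mem_smul ?_ (mem_nilradical.2 ((Commute.all _ _).isNilpotent_mul_right (hc0.map _)))
    rw [← IsLocalization.AtPrime.map_eq_maximalIdeal M L]
    exact Ideal.mem_map_of_mem _ (hM (hmap ▸ Ideal.mem_span_singleton_self t))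
  haveI : IsNoetherianRing L := IsLocalization.isNoetherianRing M.primeCompl L inferInstance
  have hbot : nilradical L = ⊥ := Submodule.eq_bot_of_le_smul_of_le_jacobson_bot (maximalIdeal L) _
    (IsNoetherian.noetherian _) hN (maximalIdeal_le_jacobson _)
  have h1 : algebraMap W L y = 0 := by
    have : algebraMap W L y ∈ nilradical L := mem_nilradical.2 (hy.map _)
    rwa [hbot, Ideal.mem_bot] at this
  obtain ⟨u, hu⟩ := (IsLocalization.map_eq_zero_iff M.primeCompl L y).1 h1
  exact ⟨u, u.2, hu⟩

/-- The trace of a discrete valuation subring on a subfield is one if it contains a nonunit. -/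
theorem isDiscreteValuationRing_comap {K L : Type u} [Field K] [Field L] (f : K →+* L) (V : ValuationSubring L)
    [IsDiscreteValuationRing V] {c : K} (hc : f c ∈ V) (hnu : ¬ IsUnit (⟨f c, hc⟩ : V)) (hc0 : c ≠ 0) :
    IsDiscreteValuationRing (V.comap f) := by
  let g : V.comap f →+* V :=
    { toFun := fun a => ⟨f a.1, a.2⟩
      map_one' := Subtype.ext (map_one f)
      map_mul' := fun a b => Subtype.ext (map_mul f a.1 b.1)
      map_zero' := Subtype.ext (map_zero f)
      map_add' := fun a b => Subtype.ext (map_add f a.1 b.1) }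
  have hg : Function.Injective g := fun a b h => Subtype.ext (f.injective (congrArg Subtype.val h))
  haveI hpid : IsPrincipalIdealRing (V.comap f) := by
    refine ⟨fun J => ?_⟩
    by_cases hJ : J = ⊥
    · subst hJ; exact bot_isPrincipal
    obtain ⟨a, haJ, ha0⟩ := Submodule.exists_mem_ne_zero_of_ne_bot hJ
    have hex : ∃ n : ℕ, ∃ b ∈ J, b ≠ 0 ∧ IsDiscreteValuationRing.addVal V (g b) = n := by
      obtain ⟨n, hn⟩ := ENat.ne_top_iff_exists.1 (show IsDiscreteValuationRing.addVal V (g a) ≠ ⊤ from fun h =>
        ha0 (hg ((IsDiscreteValuationRing.addVal_eq_top_iff.1 h).trans (map_zero g).symm)))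
      exact ⟨n, a, haJ, ha0, hn.symm⟩
    classical
    obtain ⟨b, hbJ, hb0, hbn⟩ := Nat.find_spec hex
    refine ⟨⟨b, le_antisymm (fun y hy => ?_) ((Ideal.span_singleton_le_iff_mem J).2 hbJ)⟩⟩
    rw [Submodule.mem_span_singleton]
    by_cases hy0 : y = 0
    · exact ⟨0, by simp [hy0]⟩
    have hdvd : g b ∣ g y := by
      rw [← IsDiscreteValuationRing.addVal_le_iff_dvd, hbn]
      obtain ⟨n, hn⟩ := ENat.ne_top_iff_exists.1 (show IsDiscreteValuationRing.addVal V (g y) ≠ ⊤ from fun h =>
        hy0 (hg ((IsDiscreteValuationRing.addVal_eq_top_iff.1 h).trans (map_zero g).symm)))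
      rw [← hn]
      exact_mod_cast Nat.find_min' hex ⟨y, hy, hy0, hn.symm⟩
    obtain ⟨⟨q, hq⟩, hq'⟩ := hdvd
    have hq'' : f y.1 = f b.1 * q := congrArg Subtype.val hq'
    have hb0' : b.1 ≠ 0 := fun h => hb0 (Subtype.ext h)
    have hq2 : f (y.1 / b.1) = q := by
      rw [map_div₀, hq'', mul_comm, mul_div_assoc, div_self ((map_ne_zero f).2 hb0'), mul_one]
    refine ⟨⟨y.1 / b.1, by show f (y.1 / b.1) ∈ V; rw [hq2]; exact hq⟩, Subtype.ext ?_⟩
    show y.1 / b.1 * b.1 = y.1
    rw [div_mul_cancel₀ _ hb0']
  refine { not_a_field' := fun hbot => ?_ }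
  have hcu : ¬ IsUnit (⟨c, hc⟩ : V.comap f) := fun h => hnu (h.map g)
  have : (⟨c, hc⟩ : V.comap f) ∈ maximalIdeal (V.comap f) := hcu
  rw [hbot, Ideal.mem_bot] at this
  exact hc0 (congrArg Subtype.val this)

end Groth.Agent.GeomRedFlat5
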