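import Mathlib
import Groth.Agent.GeomRedFlat5.DvrStep
import Groth.Agent.Rat20Lib.DVRDom
import Groth.Agent.GeomField.Algebra

/-!
# All fibres of a flat local homomorphism are geometrically reduced when the closed one is
-/

set_option autoImplicit false
set_option linter.style.haveILetI false

universe u

open IsLocalRing TensorProduct

namespace Groth.Agent.GeomRedFlat5

section

variable {A S : Type u} [CommRing A] [IsLocalRing A] [CommRing S] [Algebra A S]

/-- Extensions of the residue field. -/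
theorem isReduced_tensor_special (hk : Algebra.IsGeometricallyReduced (ResidueField A) (ResidueField A ⊗[A] S))
    (K : Type u) [Field K] [Algebra A K] (hm : ∀ a ∈ maximalIdeal A, algebraMap A K a = 0) :
    _root_.IsReduced (K ⊗[A] S) := by
  letI : Algebra (ResidueField A) K :=
    (Ideal.Quotient.lift (maximalIdeal A) (algebraMap A K) hm : ResidueField A →+* K).toAlgebra
  haveI : IsScalarTower A (ResidueField A) K := IsScalarTower.of_algebraMap_eq fun _ => rfl
  haveI := hk
  haveI : _root_.IsReduced (K ⊗[ResidueField A] (ResidueField A ⊗[A] S)) :=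
    FBaseLib.isReduced_field_tensor (ResidueField A ⊗[A] S) K
  exact isReduced_of_injective _
    (Algebra.TensorProduct.cancelBaseChange A (ResidueField A) K K S).symm.injective

/-- The special fibre of a base change. -/
theorem isReduced_quotient_special
    (hk : Algebra.IsGeometricallyReduced (ResidueField A) (ResidueField A ⊗[A] S))
    (V : Type u) [CommRing V] [IsLocalRing V] [Algebra A V]
    (hV : ∀ a ∈ maximalIdeal A, algebraMap A V a ∈ maximalIdeal V) :
    _root_.IsReduced ((V ⊗[A] S) ⧸ (maximalIdeal V).map (algebraMap V (V ⊗[A] S))) := by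
  let θ := Algebra.TensorProduct.map (IsScalarTower.toAlgHom A V (ResidueField V)) (AlgHom.id A S)
  have hθ : RingHom.ker θ = (maximalIdeal V).map (algebraMap V (V ⊗[A] S)) := by
    rw [Algebra.TensorProduct.rTensor_ker _ IsLocalRing.residue_surjective]
    show Ideal.map _ (RingHom.ker (residue V)) = _
    rw [IsLocalRing.ker_residue]
    rfl
  haveI : _root_.IsReduced (ResidueField V ⊗[A] S) := isReduced_tensor_special hk (ResidueField V) fun a ha => by
    rw [IsScalarTower.algebraMap_apply A V (ResidueField V)]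
    exact (IsLocalRing.residue_eq_zero_iff _).2 (hV a ha)
  rw [← hθ]
  exact isReduced_of_injective (RingHom.kerLift θ.toRingHom) (RingHom.kerLift_injective _)

/-- Nonunits of the trace of a valuation subring. -/
theorem mem_maximalIdeal_of_comap {K L : Type u} [Field K] [Field L] (f : K →+* L) (V₀ : ValuationSubring L)
    (v : V₀.comap f) (w : V₀) (hw : (w : L) = f v) : v ∈ maximalIdeal (V₀.comap f) ↔ w ∈ maximalIdeal V₀ := by
  simp only [IsLocalRing.mem_maximalIdeal, mem_nonunits_iff, not_iff_not]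
  constructor
  · intro hu
    let g : V₀.comap f →+* V₀ := (f.comp (V₀.comap f).subtype).codRestrict V₀ fun v => v.2
    have := hu.map g
    rwa [show g v = w from Subtype.ext hw.symm] at this
  · intro hu
    obtain ⟨b, hb⟩ := isUnit_iff_exists_inv.1 hu
    have hb' : f (v : K) * (b : L) = 1 := by rw [← hw]; exact congrArg Subtype.val hb
    have hv0 : (v : K) ≠ 0 := fun h => by rw [h, map_zero, zero_mul] at hb'; exact zero_ne_one hb'
    have hbV : (v : K)⁻¹ ∈ V₀.comap f := by
      show f (v : K)⁻¹ ∈ V₀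
      rw [map_inv₀, ← eq_inv_of_mul_eq_one_right hb']
      exact b.2
    exact isUnit_iff_exists_inv.2 ⟨⟨(v : K)⁻¹, hbV⟩, Subtype.ext (mul_inv_cancel₀ hv0)⟩

variable [IsNoetherianRing A] [IsLocalRing S] [IsLocalHom (algebraMap A S)] [Algebra.EssFiniteType A S]
  [Module.Flat A S]

/-- The generic fibres are reduced after finite extensions. -/
theorem isReduced_tensor_of_closed_fibre
    (hk : Algebra.IsGeometricallyReduced (ResidueField A) (ResidueField A ⊗[A] S))
    (K : Type u) [Field K] [Algebra A K] (Z : Finset K) (hZ : ∀ z ∈ Z, IsIntegral A z)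
    (hgen : ∀ x : K, ∃ a ∈ Algebra.adjoin A (Z : Set K), ∃ b ∈ Algebra.adjoin A (Z : Set K), b ≠ 0 ∧ a / b = x) :
    _root_.IsReduced (K ⊗[A] S) := by
  classical
  by_cases hm : ∀ a ∈ maximalIdeal A, algebraMap A K a = 0
  · exact isReduced_tensor_special hk K hm
  push Not at hm
  obtain ⟨a₀, ha₀, ha₀K⟩ := hm
  refine ⟨fun z hz => ?_⟩
  let I : Ideal (K ⊗[A] S) := Ideal.torsionOf (K ⊗[A] S) (K ⊗[A] S) z
  suffices I = ⊤ by
    have h1 : (1 : K ⊗[A] S) ∈ I := this ▸ trivial
    rwa [Ideal.mem_torsionOf_iff, one_smul] at h1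
  by_contra hI
  obtain ⟨w, hw, hIw⟩ := Ideal.exists_le_maximal I hI
  -- the residue field at the point
  let L := (K ⊗[A] S) ⧸ w
  letI : Field L := Ideal.Quotient.field w
  let χ : K ⊗[A] S →ₐ[A] L := Ideal.Quotient.mkₐ A w
  let χK : K →ₐ[A] L := χ.comp Algebra.TensorProduct.includeLeft
  let χS : S →ₐ[A] L := χ.comp Algebra.TensorProduct.includeRight
  letI : Algebra S L := χS.toRingHom.toAlgebra
  haveI : IsScalarTower A S L := IsScalarTower.of_algebraMap_eq fun a => (χS.commutes a).symm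
  let D : Subalgebra S L := Algebra.adjoin S ((Z.image χK : Finset L) : Set L)
  have hint : ∀ l ∈ ((Z.image χK : Finset L) : Set L), IsIntegral S l := by
    intro l hl
    obtain ⟨z', hz', rfl⟩ := Finset.mem_image.1 (Finset.mem_coe.1 hl)
    exact ((hZ z' hz').map χK).tower_top
  haveI hDfin : Module.Finite S D := Module.Finite.iff_fg.2 (fg_adjoin_of_finite (Finset.finite_toSet _) hint)
  haveI : IsNoetherianRing S := Algebra.EssFiniteType.isNoetherianRing A S
  haveI : IsNoetherianRing D := isNoetherian_of_tower S (inferInstance : IsNoetherian S D)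
  haveI : Algebra.IsIntegral S D := inferInstance
  have hadj : ∀ a ∈ Algebra.adjoin A (Z : Set K), χK a ∈ D := by
    intro a ha
    induction ha using Algebra.adjoin_induction with
    | mem a ha => exact Algebra.subset_adjoin (Finset.mem_image_of_mem _ ha)
    | algebraMap r =>
      rw [AlgHom.commutes, IsScalarTower.algebraMap_apply A S L]
      exact D.algebraMap_mem _
    | add a b _ _ ha hb => rw [map_add]; exact add_mem ha hb
    | mul a b _ _ ha hb => rw [map_mul]; exact mul_mem ha hb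
  haveI : IsFractionRing D L := by
    refine IsFractionRing.of_field D L fun l => ?_
    suffices ∃ x y : D, (y : L) ≠ 0 ∧ l * (y : L) = (x : L) by
      obtain ⟨x, y, hy, hxy⟩ := this
      exact ⟨x, y, (div_eq_of_eq_mul hy hxy.symm).symm⟩
    obtain ⟨r, rfl⟩ := Ideal.Quotient.mk_surjective l
    induction r using TensorProduct.induction_on with
    | zero => exact ⟨0, 1, one_ne_zero, by simp⟩
    | tmul k s =>
      obtain ⟨a, ha, b, hb, hb0, rfl⟩ := hgen k
      refine ⟨⟨χK a, hadj a ha⟩ * algebraMap S D s, ⟨χK b, hadj b hb⟩, ?_, ?_⟩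
      · exact (map_ne_zero χK.toRingHom).2 hb0
      · show χ ((a / b) ⊗ₜ s) * χ (b ⊗ₜ 1) = χ (a ⊗ₜ 1) * χ ((1 : K) ⊗ₜ s)
        rw [← map_mul, ← map_mul, Algebra.TensorProduct.tmul_mul_tmul, Algebra.TensorProduct.tmul_mul_tmul,
          div_mul_cancel₀ _ hb0, mul_one, mul_one, one_mul]
    | add r₁ r₂ h₁ h₂ =>
      obtain ⟨x₁, y₁, hy₁, hr₁⟩ := h₁
      obtain ⟨x₂, y₂, hy₂, hr₂⟩ := h₂
      refine ⟨x₁ * y₂ + x₂ * y₁, y₁ * y₂, mul_ne_zero hy₁ hy₂, ?_⟩
      show Ideal.Quotient.mk w (r₁ + r₂) * ((y₁ : L) * y₂) = (x₁ : L) * y₂ + (x₂ : L) * y₁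
      rw [map_add, ← hr₁, ← hr₂]; ring
  obtain ⟨n, hn⟩ := Ideal.exists_maximal D
  have hnS : n.comap (algebraMap S D) = maximalIdeal S :=
    IsLocalRing.eq_maximalIdeal (Ideal.isMaximal_comap_of_isIntegral_of_isMaximal n)
  have hA_n : ∀ a ∈ maximalIdeal A, algebraMap S D (algebraMap A S a) ∈ n := fun a ha =>
    Ideal.mem_comap.1 (hnS.symm ▸ map_nonunit (algebraMap A S) a ha)
  have hn0 : n ≠ ⊥ := fun h => by
    have h1 := hA_n a₀ ha₀
    rw [h, Ideal.mem_bot] at h1
    have h2 : algebraMap A L a₀ = 0 := by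
      rw [IsScalarTower.algebraMap_apply A S L]
      exact congrArg (fun d : D => (d : L)) h1
    rw [← χK.commutes] at h2
    exact ha₀K ((map_eq_zero χK.toRingHom).1 h2)
  haveI := hn.isPrime
  obtain ⟨V₀, hV₀, hV₀n⟩ := Rat20Lib.exists_dvr_centre (K := L) n hn0
  have hAV₀ : ∀ a : A, algebraMap A L a ∈ V₀ := fun a => by
    rw [IsScalarTower.algebraMap_apply A S L]
    exact (hV₀n (algebraMap S D (algebraMap A S a))).1
  have hAnu : ∀ a ∈ maximalIdeal A, (⟨algebraMap A L a, hAV₀ a⟩ : V₀) ∈ maximalIdeal V₀ := fun a ha => by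
    rw [← ValuationSubring.coe_mem_nonunits_iff, show ((⟨algebraMap A L a, hAV₀ a⟩ : V₀) : L) =
      algebraMap D L (algebraMap S D (algebraMap A S a)) from IsScalarTower.algebraMap_apply A S L a]
    exact (hV₀n _).2.2 (hA_n a ha)
  let V := V₀.comap χK.toRingHom
  have hAV : ∀ a : A, algebraMap A K a ∈ V := fun a => by
    show χK (algebraMap A K a) ∈ V₀
    rw [χK.commutes]; exact hAV₀ a
  letI : Algebra A V := ((algebraMap A K).codRestrict V hAV).toAlgebra
  haveI : IsScalarTower A V K := IsScalarTower.of_algebraMap_eq fun _ => rfl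
  haveI : IsDiscreteValuationRing V := isDiscreteValuationRing_comap χK.toRingHom V₀ (c := algebraMap A K a₀)
    (hAV a₀) (by
      have h := hAnu a₀ ha₀
      have e : (⟨χK.toRingHom (algebraMap A K a₀), hAV a₀⟩ : V₀) = ⟨algebraMap A L a₀, hAV₀ a₀⟩ :=
        Subtype.ext (χK.commutes a₀)
      rw [e]; exact h) ha₀K
  let toV₀ : V →ₐ[A] L := χK.comp (IsScalarTower.toAlgHom A V K)
  let ψL : V ⊗[A] S →ₐ[A] L := Algebra.TensorProduct.lift toV₀ χS (fun _ _ => Commute.all _ _)
  have hψmem : ∀ y, ψL y ∈ V₀ := by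
    intro y
    induction y using TensorProduct.induction_on with
    | zero => rw [map_zero]; exact V₀.zero_mem
    | tmul v s =>
      rw [Algebra.TensorProduct.lift_tmul]
      exact V₀.mul_mem _ _ v.2 (hV₀n (algebraMap S D s)).1
    | add a b ha hb => rw [map_add]; exact V₀.add_mem _ _ ha hb
  let ψ : V ⊗[A] S →+* V₀ := ψL.toRingHom.codRestrict V₀ hψmem
  let M : Ideal (V ⊗[A] S) := (maximalIdeal V₀).comap ψ
  haveI : M.IsPrime := Ideal.IsPrime.comap _
  let Φ : V ⊗[A] S →ₐ[A] K ⊗[A] S :=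
    Algebra.TensorProduct.map (IsScalarTower.toAlgHom A V K) (AlgHom.id A S)
  have hΦinj : Function.Injective Φ :=
    Module.Flat.rTensor_preserves_injective_linearMap (M := S) (IsScalarTower.toAlgHom A V K).toLinearMap
      Subtype.val_injective
  have hχΦ : χ.comp Φ = ψL := by
    refine Algebra.TensorProduct.ext' fun v s => ?_
    show χ ((v : K) ⊗ₜ s) = ψL (v ⊗ₜ s)
    rw [Algebra.TensorProduct.lift_tmul]
    show _ = χ ((v : K) ⊗ₜ[A] (1 : S)) * χ ((1 : K) ⊗ₜ[A] s)
    rw [← map_mul, Algebra.TensorProduct.tmul_mul_tmul, mul_one, one_mul]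
  have hvloc : ∀ a ∈ maximalIdeal A, algebraMap A V a ∈ maximalIdeal V := fun a ha =>
    (mem_maximalIdeal_of_comap χK.toRingHom V₀ (algebraMap A V a) ⟨algebraMap A L a, hAV₀ a⟩
      (χK.commutes a).symm).2 (hAnu a ha)
  have hred := isReduced_quotient_special hk V hvloc
  have hMle : (maximalIdeal V).map (algebraMap V (V ⊗[A] S)) ≤ M := by
    rw [Ideal.map_le_iff_le_comap]
    intro v hv
    refine (mem_maximalIdeal_of_comap χK.toRingHom V₀ v (ψ (v ⊗ₜ 1)) ?_).1 hv
    show ψL (v ⊗ₜ 1) = χK (v : K)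
    rw [Algebra.TensorProduct.lift_tmul, map_one, mul_one]
    rfl
  haveI : IsNoetherianRing (V ⊗[A] S) := Algebra.EssFiniteType.isNoetherianRing V _
  have hclear : ∀ r : K ⊗[A] S, ∃ c : K, c ≠ 0 ∧ c ∈ V ∧ ∃ y, Φ y = c ⊗ₜ 1 * r := by
    intro r
    induction r using TensorProduct.induction_on with
    | zero => exact ⟨1, one_ne_zero, V.one_mem, 0, by simp⟩
    | tmul k s =>
      by_cases hk0 : k = 0
      · exact ⟨1, one_ne_zero, V.one_mem, 0, by simp [hk0]⟩
      rcases V.mem_or_inv_mem k with h | h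
      · exact ⟨1, one_ne_zero, V.one_mem, (⟨k, h⟩ : V) ⊗ₜ s, by
          rw [Algebra.TensorProduct.tmul_mul_tmul, one_mul, one_mul]; rfl⟩
      · exact ⟨k⁻¹, inv_ne_zero hk0, h, (1 : V) ⊗ₜ s, by
          rw [Algebra.TensorProduct.tmul_mul_tmul, inv_mul_cancel₀ hk0, one_mul]; rfl⟩
    | add r₁ r₂ h₁ h₂ =>
      obtain ⟨c₁, hc₁, hc₁V, y₁, hy₁⟩ := h₁
      obtain ⟨c₂, hc₂, hc₂V, y₂, hy₂⟩ := h₂
      refine ⟨c₁ * c₂, mul_ne_zero hc₁ hc₂, V.mul_mem _ _ hc₁V hc₂V,
        (⟨c₂, hc₂V⟩ : V) ⊗ₜ 1 * y₁ + (⟨c₁, hc₁V⟩ : V) ⊗ₜ 1 * y₂, ?_⟩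
      rw [map_add, map_mul, map_mul, hy₁, hy₂, show Φ ((⟨c₂, hc₂V⟩ : V) ⊗ₜ 1) = c₂ ⊗ₜ 1 from rfl,
        show Φ ((⟨c₁, hc₁V⟩ : V) ⊗ₜ 1) = c₁ ⊗ₜ 1 from rfl,
        show (c₁ * c₂) ⊗ₜ[A] (1 : S) = c₁ ⊗ₜ 1 * c₂ ⊗ₜ 1 by rw [Algebra.TensorProduct.tmul_mul_tmul, mul_one]]
      ring
  obtain ⟨c, hc, hcV, y, hy⟩ := hclear z
  have hynil : IsNilpotent y := by
    obtain ⟨N, hN⟩ := hz
    exact ⟨N, hΦinj (by rw [map_pow, hy, mul_pow, hN, mul_zero, map_zero])⟩
  obtain ⟨u, huM, huy⟩ := exists_smul_eq_zero_of_isNilpotent hred M hMle hynil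
  have huI : Φ u ∈ I := by
    rw [Ideal.mem_torsionOf_iff, smul_eq_mul]
    have h0 : c ⊗ₜ[A] (1 : S) * (Φ u * z) = 0 := by
      rw [mul_left_comm, ← hy, ← map_mul, huy, map_zero]
    have hunit : c⁻¹ ⊗ₜ[A] (1 : S) * (c ⊗ₜ[A] (1 : S)) = 1 := by
      rw [Algebra.TensorProduct.tmul_mul_tmul, inv_mul_cancel₀ hc, mul_one]; rfl
    rw [← one_mul (Φ u * z), ← hunit, mul_assoc, h0, mul_zero]
  refine huM ?_
  have h1 : ψL u = 0 := by
    rw [← hχΦ]; exact Ideal.Quotient.eq_zero_iff_mem.2 (hIw huI)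
  show ψ u ∈ maximalIdeal V₀
  rw [show ψ u = 0 from Subtype.ext h1]
  exact zero_mem _

/-- All fibres are geometrically reduced. -/
theorem isGeometricallyReduced_fibre
    (hk : Algebra.IsGeometricallyReduced (ResidueField A) (ResidueField A ⊗[A] S))
    (p : Ideal A) [p.IsPrime] : Algebra.IsGeometricallyReduced p.ResidueField (p.ResidueField ⊗[A] S) := by
  classical
  refine GeomField.gr_of_purelyInseparable _ fun K _ _ _ _ => ?_
  letI : Algebra A K := ((algebraMap p.ResidueField K).comp (algebraMap A p.ResidueField)).toAlgebra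
  haveI : IsScalarTower A p.ResidueField K := IsScalarTower.of_algebraMap_eq fun _ => rfl
  let b := Module.finBasis p.ResidueField K
  have hden : ∀ x : K, ∃ r : A, r ∉ p ∧ IsIntegral A (algebraMap A K r * x) := by
    intro x
    letI : Algebra (A ⧸ p) K := ((algebraMap p.ResidueField K).comp (algebraMap (A ⧸ p) p.ResidueField)).toAlgebra
    have halg : IsAlgebraic (A ⧸ p) x := by
      haveI : IsScalarTower (A ⧸ p) p.ResidueField K := IsScalarTower.of_algebraMap_eq fun _ => rfl
      exact (IsFractionRing.isAlgebraic_iff (A ⧸ p) p.ResidueField K).2 (Algebra.IsAlgebraic.isAlgebraic x)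
    obtain ⟨r', hr', hint⟩ := halg.exists_integral_multiple
    obtain ⟨r, rfl⟩ := Ideal.Quotient.mk_surjective r'
    refine ⟨r, fun h => hr' (Ideal.Quotient.eq_zero_iff_mem.2 h), ?_⟩
    haveI : IsScalarTower A (A ⧸ p) K := IsScalarTower.of_algebraMap_eq fun a => by
      show algebraMap p.ResidueField K (algebraMap A p.ResidueField a) =
        algebraMap p.ResidueField K (algebraMap (A ⧸ p) p.ResidueField (Ideal.Quotient.mk p a))
      rfl
    haveI : Algebra.IsIntegral A (A ⧸ p) := ⟨fun y => (Module.Finite.of_surjective (Algebra.linearMap A (A ⧸ p))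
      Ideal.Quotient.mk_surjective |> fun _ => Algebra.IsIntegral.isIntegral y)⟩
    rw [Algebra.smul_def] at hint
    exact isIntegral_trans _ hint
  choose r hr hint using hden
  have hne : ∀ a : A, a ∉ p → algebraMap A K a ≠ 0 := fun a ha h => ha (by
    have := (map_eq_zero (algebraMap p.ResidueField K)).1 h
    exact Ideal.algebraMap_residueField_eq_zero.1 this)
  let Z : Finset K := Finset.univ.image fun i => algebraMap A K (r (b i)) * b i
  have := isReduced_tensor_of_closed_fibre hk K Z (fun z hz => by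
    obtain ⟨i, -, rfl⟩ := Finset.mem_image.1 hz
    exact hint (b i)) (fun x => by
    let D := Algebra.adjoin A (Z : Set K)
    let F : Set K := {x | ∃ a ∈ D, ∃ c ∈ D, c ≠ 0 ∧ a / c = x}
    have hadd : ∀ x ∈ F, ∀ y ∈ F, x + y ∈ F := by
      rintro _ ⟨a, ha, c, hc, hc0, rfl⟩ _ ⟨a', ha', c', hc', hc0', rfl⟩
      exact ⟨a * c' + c * a', add_mem (mul_mem ha hc') (mul_mem hc ha'), c * c', mul_mem hc hc',
        mul_ne_zero hc0 hc0', (div_add_div a a' hc0 hc0').symm⟩
    have hmul : ∀ (q : p.ResidueField) (i : _), algebraMap p.ResidueField K q * b i ∈ F := by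
      intro q i
      obtain ⟨a, s, hs, rfl⟩ := IsFractionRing.div_surjective (A := A ⧸ p) q
      obtain ⟨a, rfl⟩ := Ideal.Quotient.mk_surjective a
      obtain ⟨s, rfl⟩ := Ideal.Quotient.mk_surjective s
      have hs' : s ∉ p := fun h => nonZeroDivisors.ne_zero hs (Ideal.Quotient.eq_zero_iff_mem.2 h)
      refine ⟨algebraMap A K a * (algebraMap A K (r (b i)) * b i),
        mul_mem (D.algebraMap_mem a) (Algebra.subset_adjoin (Finset.mem_image_of_mem _ (Finset.mem_univ i))),
        algebraMap A K s * algebraMap A K (r (b i)), mul_mem (D.algebraMap_mem s) (D.algebraMap_mem _),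
        mul_ne_zero (hne s hs') (hne _ (hr _)), ?_⟩
      have h1 := hne s hs'
      have h2 := hne _ (hr (b i))
      rw [map_div₀]
      show _ = algebraMap A K a / algebraMap A K s * b i
      field_simp
    show x ∈ F
    rw [← b.sum_repr x]
    refine Finset.sum_induction _ (· ∈ F) (fun u v hu hv => hadd u hu v hv)
      ⟨0, D.zero_mem, 1, D.one_mem, one_ne_zero, by simp⟩ fun i _ => ?_
    rw [Algebra.smul_def]
    exact hmul _ i)
  exact isReduced_of_injective
    (((Algebra.TensorProduct.comm p.ResidueField _ K).trans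
      ((Algebra.TensorProduct.cancelBaseChange A p.ResidueField K K S).restrictScalars p.ResidueField)) : _ ≃ₐ[_] _)
    (AlgEquiv.injective _)

end

end Groth.Agent.GeomRedFlat5

namespace Groth.Agent.GeomRedFlat5

/-- A flat algebra over a reduced Noetherian ring with reduced fibres at the minimal primes is reduced. -/
theorem isReduced_of_fibres {A S : Type u} [CommRing A] [IsNoetherianRing A] [_root_.IsReduced A] [CommRing S] [Algebra A S]
    [Module.Flat A S] (h : ∀ p : Ideal A, [p.IsPrime] → p ∈ minimalPrimes A → _root_.IsReduced (p.ResidueField ⊗[A] S)) :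
    _root_.IsReduced S := by
  classical
  let ι := {p : Ideal A // p ∈ minimalPrimes A}
  haveI : Fintype ι := (minimalPrimes.finite_of_isNoetherianRing A).fintype
  haveI : ∀ i : ι, i.1.IsPrime := fun i => i.2.1.1
  let f : A →ₗ[A] ∀ i : ι, i.1.ResidueField := LinearMap.pi fun i => Algebra.linearMap A i.1.ResidueField
  have hf : Function.Injective f := by
    rw [injective_iff_map_eq_zero]
    intro a ha
    refine IsReduced.eq_zero a (nilpotent_iff_mem_prime.2 fun q hq => ?_)
    obtain ⟨p, hp, hpq⟩ := Ideal.exists_minimalPrimes_le (I := (⊥ : Ideal A)) (J := q) bot_le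
    haveI := hp.1.1
    exact hpq (Ideal.algebraMap_residueField_eq_zero.1 (congrFun ha ⟨p, hp⟩))
  refine ⟨fun z hz => ?_⟩
  have hinj := Module.Flat.rTensor_preserves_injective_linearMap (M := S) f hf
  have h0 : ∀ i : ι, (1 : i.1.ResidueField) ⊗ₜ[A] z = 0 := fun i => by
    haveI := h i.1 i.2
    exact (hz.map (Algebra.TensorProduct.includeRight : S →ₐ[A] i.1.ResidueField ⊗[A] S)).eq_zero
  have h1 : f.rTensor S ((1 : A) ⊗ₜ[A] z) = 0 := by
    apply (TensorProduct.piLeft A S (fun i : ι => i.1.ResidueField)).injective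
    ext i
    rw [map_zero, LinearMap.rTensor_tmul]
    have : f 1 i = 1 := map_one (algebraMap A i.1.ResidueField)
    simp [this, h0 i]
  have h2 := congrArg (TensorProduct.lid A S) (hinj (h1.trans (map_zero _).symm))
  simpa using h2

end Groth.Agent.GeomRedFlat5
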