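import Mathlib
import Groth.Agent.GeomRedFlat5.Inv
import Groth.Agent.GeomRedFlat5.Bridge
import Groth.Agent.GeomRedFlat5.Fibres
import Groth.Agent.FlatDvrVC5.SchemePoint

/-!
# Geometrically reduced fibres near a point of flatness
-/

set_option autoImplicit false
set_option linter.style.haveILetI false

universe u

open CategoryTheory Limits AlgebraicGeometry IsLocalRing TensorProduct

namespace Groth.Agent.GeomRedFlat5

/-- Field-valued base changes of geometrically reduced fibres. -/
theorem isReduced_field_of_fibres {A S : Type u} [CommRing A] [CommRing S] [Algebra A S] (K : Type u) [Field K] [Algebra A K]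
    (h : ∀ p : Ideal A, [p.IsPrime] → Algebra.IsGeometricallyReduced p.ResidueField (p.ResidueField ⊗[A] S)) :
    _root_.IsReduced (K ⊗[A] S) := by
  let p : Ideal A := RingHom.ker (algebraMap A K)
  haveI : p.IsPrime := RingHom.ker_isPrime _
  let l : p.ResidueField →+* K := Ideal.ResidueField.lift p (algebraMap A K) le_rfl
    (fun a ha => isUnit_iff_ne_zero.2 fun h0 => ha h0)
  letI : Algebra p.ResidueField K := l.toAlgebra
  haveI : IsScalarTower A p.ResidueField K := IsScalarTower.of_algebraMap_eq fun a =>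
    (Ideal.ResidueField.lift_algebraMap p _ _ _ a).symm
  haveI := h p
  haveI : _root_.IsReduced (K ⊗[p.ResidueField] (p.ResidueField ⊗[A] S)) :=
    FBaseLib.isReduced_field_tensor (p.ResidueField ⊗[A] S) K
  exact isReduced_of_injective _ (Algebra.TensorProduct.cancelBaseChange A p.ResidueField K K S).symm.injective

theorem fibres_of_E {X Y : Scheme.{u}} (f : X ⟶ Y) [LocallyOfFiniteType f] (x : X)
    [IsNoetherianRing (Y.presheaf.stalk (f.base x))] [Algebra (Y.presheaf.stalk (f.base x)) (X.presheaf.stalk x)]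
    (hS : algebraMap (Y.presheaf.stalk (f.base x)) (X.presheaf.stalk x) = (f.stalkMap x).hom)
    (hflat : (f.stalkMap x).hom.Flat) (hE : E f x) (p : Ideal (Y.presheaf.stalk (f.base x))) [p.IsPrime] :
    Algebra.IsGeometricallyReduced p.ResidueField (p.ResidueField ⊗[Y.presheaf.stalk (f.base x)] X.presheaf.stalk x) := by
  haveI : IsLocalHom (algebraMap (Y.presheaf.stalk (f.base x)) (X.presheaf.stalk x)) :=
    hS ▸ inferInstanceAs (IsLocalHom (f.stalkMap x).hom)
  haveI : Algebra.EssFiniteType (Y.presheaf.stalk (f.base x)) (X.presheaf.stalk x) := by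
    rw [← RingHom.essFiniteType_algebraMap, hS]; exact LocallyOfFiniteType.stalkMap f x
  haveI : Module.Flat (Y.presheaf.stalk (f.base x)) (X.presheaf.stalk x) := by
    rw [← RingHom.flat_algebraMap_iff, hS]; exact hflat
  exact isGeometricallyReduced_fibre ((isGeomReducedAt_fibre_iff f x hS).1 hE) p

/-- Reducedness at a point over a reduced Noetherian local base. -/
theorem isReduced_stalk_noetherian {X Y : Scheme.{u}} (f : X ⟶ Y) [LocallyOfFiniteType f] (x : X)
    [IsNoetherianRing (Y.presheaf.stalk (f.base x))] [_root_.IsReduced (Y.presheaf.stalk (f.base x))]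
    (hflat : (f.stalkMap x).hom.Flat) (hE : E f x) : _root_.IsReduced (X.presheaf.stalk x) := by
  letI : Algebra (Y.presheaf.stalk (f.base x)) (X.presheaf.stalk x) := (f.stalkMap x).hom.toAlgebra
  haveI : Module.Flat (Y.presheaf.stalk (f.base x)) (X.presheaf.stalk x) := hflat
  exact isReduced_of_fibres fun p _ _ => isReduced_field_of_fibres _ fun q _ => fibres_of_E f x rfl hflat hE q

/-- Geometric reducedness of fibres passes to generalizations at points of flatness. -/
theorem E_of_specializes {X Y : Scheme.{u}} (f : X ⟶ Y) [LocallyOfFiniteType f] {x x' : X} (h : x' ⤳ x)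
    [IsNoetherianRing (Y.presheaf.stalk (f.base x))] (hflat : (f.stalkMap x).hom.Flat) (hE : E f x) : E f x' := by
  let Ω := AlgebraicClosure (IsLocalRing.ResidueField (Y.presheaf.stalk (f x')))
  let φ : Y.residueField (f x') ⟶ CommRingCat.of Ω :=
    CommRingCat.ofHom (algebraMap (IsLocalRing.ResidueField (Y.presheaf.stalk (f x'))) Ω)
  obtain ⟨z, hz⟩ := exists_point f x' Ω φ
  refine E_of_isReduced Ω φ z hz ?_
  have hyy : f x' ⤳ f x := h.map f.continuous
  let ψ : Y.presheaf.stalk (f x) ⟶ CommRingCat.of Ω := Y.presheaf.stalkSpecializes hyy ≫ Y.residue (f x') ≫ φ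
  have key : ∀ (g' : Spec (CommRingCat.of Ω) ⟶ Y), g' = Spec.map ψ ≫ Y.fromSpecStalk (f x) →
      ∀ v : ↥(pullback f g'), (pullback.fst f g').base v = x' →
        _root_.IsReduced ((pullback f g').presheaf.stalk v) := by
    rintro _ rfl v hv
    letI : Algebra (Y.presheaf.stalk (f.base x)) (X.presheaf.stalk x) := (f.stalkMap x).hom.toAlgebra
    letI : Algebra (Y.presheaf.stalk (f.base x)) Ω := ψ.hom.toAlgebra
    haveI : _root_.IsReduced (Ω ⊗[Y.presheaf.stalk (f.base x)] X.presheaf.stalk x) :=
      isReduced_field_of_fibres Ω fun q _ => fibres_of_E f x rfl hflat hE q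
    obtain ⟨n, hn1, hn2, -, -, hsurj⟩ := FlatDvrVC5.exists_lift f x rfl Ω
    haveI := hn1
    haveI := hn2
    obtain ⟨P, rfl⟩ := hsurj v (by
      rw [Scheme.range_fromSpecStalk]
      exact (specializes_of_eq hv).trans h)
    refine (FBaseLib.isReduced_iff_of_bijective (n.stalkMap P) (AssLib.bijective_stalkMap n P)).2 ?_
    infer_instance
  refine key _ ?_ z hz
  rw [Spec.map_comp, Spec.map_comp, Category.assoc, Category.assoc, Scheme.SpecMap_stalkSpecializes_fromSpecStalk]
  rfl

end Groth.Agent.GeomRedFlat5
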