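import Mathlib
import Groth.Agent.GeomRedFlat5.Inv
import Groth.Agent.GeomRedFlat5.Local
import Groth.Agent.GeomRedFlat5.Generic
import Groth.Agent.RegLoc6.Open
import Groth.Agent.FlatLocus.Basic
import Groth.Agent.SrcDescent.FlatModelAlg

/-!
# Openness of the locus of flat points with geometrically reduced fibres
-/

set_option autoImplicit false
set_option linter.style.haveILetI false

universe u

open CategoryTheory Limits AlgebraicGeometry TensorProduct

namespace Groth.Agent.GeomRedFlat5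

/-- Flatness at `x` and geometric reducedness of the fibre at `x`. -/
abbrev FE {X Y : Scheme.{u}} (f : X ⟶ Y) (x : X) : Prop := (f.stalkMap x).hom.Flat ∧ E f x

theorem isPullback_tensor (A S T : Type u) [CommRing A] [CommRing S] [CommRing T] [Algebra A S] [Algebra A T] :
    IsPullback (Spec.map (CommRingCat.ofHom (S := S ⊗[A] T) (Algebra.TensorProduct.includeRight : T →ₐ[A] S ⊗[A] T).toRingHom))
      (Spec.map (CommRingCat.ofHom (S := S ⊗[A] T) Algebra.TensorProduct.includeLeftRingHom))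
      (Spec.map (CommRingCat.ofHom (algebraMap A T))) (Spec.map (CommRingCat.ofHom (algebraMap A S))) :=
  (isPullback_SpecMap_of_isPushout _ _ _ _ (CommRingCat.isPushout_tensorProduct A S T)).flip

theorem E_comp_mono {X Y Z : Scheme.{u}} (q : X ⟶ Y) (e : Y ⟶ Z) [Mono e] (x : X) : E (q ≫ e) x ↔ E q x := by
  have h : IsPullback (𝟙 X) q (q ≫ e) e :=
    IsPullback.mk ⟨by simp⟩ ⟨PullbackCone.IsLimit.mk _
      (fun s => s.fst) (fun s => by simp) (fun s => (cancel_mono e).1 (by rw [Category.assoc]; exact s.condition))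
      (fun s m h1 _ => by simpa using h1)⟩
  exact ((E_iff_of_isPullback h x).trans Iff.rfl).symm

section affine

variable {A B : CommRingCat.{u}} (φ : A ⟶ B)

theorem exists_generic_nhd [IsNoetherianRing A] (hφ : φ.hom.FiniteType) (q : PrimeSpectrum B)
    (hE : E (Spec.map φ) q) :
    ∃ f ∉ q.asIdeal, ∀ q' : PrimeSpectrum B, q.asIdeal ≤ q'.asIdeal → f ∉ q'.asIdeal → E (Spec.map φ) q' := by
  letI : Algebra A B := φ.hom.toAlgebra
  haveI : Algebra.FiniteType A B := hφ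
  let p : Ideal A := q.asIdeal.comap φ.hom
  let π : B →+* (A ⧸ p) ⊗[A] B := (Algebra.TensorProduct.includeRight : B →ₐ[A] (A ⧸ p) ⊗[A] B).toRingHom
  let φ₀ : CommRingCat.of (A ⧸ p) ⟶ CommRingCat.of ((A ⧸ p) ⊗[A] B) :=
    CommRingCat.ofHom Algebra.TensorProduct.includeLeftRingHom
  have sq : IsPullback (Spec.map (CommRingCat.ofHom π)) (Spec.map φ₀) (Spec.map φ)
      (Spec.map (CommRingCat.ofHom (algebraMap A (A ⧸ p)))) := isPullback_tensor A (A ⧸ p) B
  have hlift : ∀ q' : PrimeSpectrum B, q.asIdeal ≤ q'.asIdeal →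
      ∃ z : PrimeSpectrum ((A ⧸ p) ⊗[A] B), PrimeSpectrum.comap π z = q' := by
    intro q' hq'
    let ψ : (A ⧸ p) ⊗[A] B →ₐ[A] B ⧸ q'.asIdeal :=
      Algebra.TensorProduct.lift
        (Ideal.Quotient.liftₐ p (Algebra.ofId A (B ⧸ q'.asIdeal)) fun a ha =>
          (Ideal.Quotient.eq_zero_iff_mem.2 (hq' ha) : Ideal.Quotient.mk q'.asIdeal (algebraMap A B a) = 0))
        (Ideal.Quotient.mkₐ A q'.asIdeal) (fun _ _ => Commute.all _ _)
    refine ⟨⟨RingHom.ker ψ.toRingHom, RingHom.ker_isPrime _⟩, PrimeSpectrum.ext (Ideal.ext fun b => ?_)⟩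
    show ψ (1 ⊗ₜ b) = 0 ↔ _
    rw [Algebra.TensorProduct.lift_tmul, map_one, one_mul]
    exact Ideal.Quotient.eq_zero_iff_mem
  obtain ⟨z, hz⟩ := hlift q le_rfl
  haveI : p.IsPrime := inferInstance
  have hz0 : PrimeSpectrum.comap φ₀.hom z = (⟨⊥, Ideal.isPrime_bot⟩ : PrimeSpectrum (A ⧸ p)) := by
    refine PrimeSpectrum.ext (eq_bot_iff.2 fun a ha => ?_)
    obtain ⟨a, rfl⟩ := Ideal.Quotient.mk_surjective a
    have h1 : ((Ideal.Quotient.mk p a) ⊗ₜ[A] (1 : B)) ∈ z.asIdeal := ha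
    rw [← Ideal.Quotient.algebraMap_eq, Algebra.algebraMap_eq_smul_one, smul_tmul] at h1
    have h2 : a • (1 : B) ∈ (PrimeSpectrum.comap π z).asIdeal := h1
    rw [hz, ← Algebra.algebraMap_eq_smul_one] at h2
    exact (Ideal.Quotient.eq_zero_iff_mem.2 h2 : Ideal.Quotient.mk p a = 0)
  have hft : φ₀.hom.FiniteType := RingHom.finiteType_algebraMap.2 inferInstance
  have hE₀ : E (Spec.map φ₀) z := (E_iff_of_isPullback sq z).2 (by
    show E (Spec.map φ) (PrimeSpectrum.comap π z)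
    rwa [hz])
  haveI : IsDomain (CommRingCat.of (A ⧸ p)) := inferInstanceAs (IsDomain (A ⧸ p))
  haveI : IsNoetherianRing (CommRingCat.of (A ⧸ p)) := inferInstanceAs (IsNoetherianRing (A ⧸ p))
  obtain ⟨O, hO, hzO, hOE⟩ := E_near_generic φ₀ hft z hz0 hE₀
  obtain ⟨_, ⟨g, rfl⟩, hgz, hgO⟩ :=
    PrimeSpectrum.isTopologicalBasis_basic_opens.exists_subset_of_mem_open (hzO : z ∈ O) hO
  have hsurj : Function.Surjective π := by
    intro y
    induction y using TensorProduct.induction_on with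
    | zero => exact ⟨0, map_zero _⟩
    | tmul a b =>
      obtain ⟨a, rfl⟩ := Ideal.Quotient.mk_surjective a
      exact ⟨a • b, by
        show (1 : A ⧸ p) ⊗ₜ[A] (a • b) = _
        rw [← smul_tmul, ← Algebra.algebraMap_eq_smul_one]; rfl⟩
    | add _ _ h₁ h₂ =>
      obtain ⟨y₁, rfl⟩ := h₁; obtain ⟨y₂, rfl⟩ := h₂
      exact ⟨y₁ + y₂, map_add _ _ _⟩
  obtain ⟨f, rfl⟩ := hsurj g
  refine ⟨f, fun hf => hgz (show f ∈ (PrimeSpectrum.comap π z).asIdeal by rwa [hz]), fun q' hq' hf => ?_⟩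
  obtain ⟨z', rfl⟩ := hlift q' hq'
  exact (E_iff_of_isPullback sq z').1 (hOE z' (hgO hf))

/-- Openness over a Noetherian ring. -/
theorem isOpen_FE_Spec_noetherian [IsNoetherianRing A] (hφ : φ.hom.FiniteType) :
    IsOpen {q : Spec B | FE (Spec.map φ) q} := by
  haveI : LocallyOfFinitePresentation (Spec.map φ) :=
    (HasRingHomProperty.Spec_iff (P := @LocallyOfFinitePresentation)).2 (RingHom.FinitePresentation.of_finiteType.1 hφ)
  haveI : IsNoetherianRing B := by
    letI := φ.hom.toAlgebra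
    haveI : Algebra.FiniteType A B := hφ
    exact Algebra.FiniteType.isNoetherianRing A B
  have hflat := FlatLocus.isOpen_flat_locus (Spec.map φ)
  refine RegLoc6.isOpen_of_forall_generic (A := B) {q : PrimeSpectrum B | FE (Spec.map φ) q} ?_ ?_
  · intro x y hxy hy
    have h : (x : Spec B) ⤳ (y : Spec B) := (PrimeSpectrum.le_iff_specializes x y).1 hxy
    exact ⟨hflat.stableUnderGeneralization h hy.1, E_of_specializes _ h hy.1 hy.2⟩
  · rintro x ⟨hx₁, hx₂⟩
    obtain ⟨f, hf, hfE⟩ := exists_generic_nhd φ hφ x hx₂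
    obtain ⟨_, ⟨g, rfl⟩, hg, hgO⟩ :=
      PrimeSpectrum.isTopologicalBasis_basic_opens.exists_subset_of_mem_open (a := x) (show x ∈ _ from hx₁) hflat
    exact ⟨f * g, fun h => (x.2.mem_or_mem h).elim hf hg, fun y hxy hy =>
      ⟨hgO fun h => hy (y.asIdeal.mul_mem_left _ h), hfE y hxy fun h => hy (y.asIdeal.mul_mem_right _ h)⟩⟩

end affine

theorem E_chart {X Y : Scheme.{u}} (f : X ⟶ Y) {A B : CommRingCat.{u}} (φ : A ⟶ B) (j : Spec B ⟶ X)
    [IsOpenImmersion j] (i : Spec A ⟶ Y) [IsOpenImmersion i] (h : j ≫ f = Spec.map φ ≫ i) (q : Spec B) :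
    E f (j.base q) ↔ E (Spec.map φ) q := by
  rw [← E_comp_openImmersion j f q, h, E_comp_mono]

theorem flat_chart {X Y : Scheme.{u}} (f : X ⟶ Y) {A B : CommRingCat.{u}} (φ : A ⟶ B) (j : Spec B ⟶ X)
    [IsOpenImmersion j] (i : Spec A ⟶ Y) [IsOpenImmersion i] (h : j ≫ f = Spec.map φ ≫ i) (q : Spec B) :
    (f.stalkMap (j.base q)).hom.Flat ↔ ((Spec.map φ).stalkMap q).hom.Flat := by
  have h1 : (f.stalkMap (j.base q)).hom.Flat ↔ ((j ≫ f).stalkMap q).hom.Flat := by
    rw [Scheme.Hom.stalkMap_comp]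
    exact (FlatLocus.flat_comp_isIso _ _).symm
  have h2 : ((Spec.map φ ≫ i).stalkMap q).hom.Flat ↔ ((Spec.map φ).stalkMap q).hom.Flat := by
    rw [Scheme.Hom.stalkMap_comp]
    have hiso : ∀ z : Spec A, IsIso (i.stalkMap z) := fun z => inferInstance
    exact @FlatLocus.flat_isIso_comp _ _ _ _ (hiso _) _
  rw [h1, h, h2]

/-- Openness over a locally Noetherian base. -/
theorem isOpen_FE_noetherian {X Y : Scheme.{u}} [IsLocallyNoetherian Y] (f : X ⟶ Y) [LocallyOfFiniteType f] :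
    IsOpen {x : X | FE f x} := by
  rw [isOpen_iff_forall_mem_open]
  intro x hx
  obtain ⟨V, hV, hxV, -⟩ := exists_isAffineOpen_mem_and_subset (U := (⊤ : Y.Opens)) (x := f x) trivial
  obtain ⟨U, hU, hxU, hUV⟩ := exists_isAffineOpen_mem_and_subset (U := f ⁻¹ᵁ V) (x := x) hxV
  haveI : IsNoetherianRing Γ(Y, V) := IsLocallyNoetherian.component_noetherian ⟨V, hV⟩
  have hsq : hU.fromSpec ≫ f = Spec.map (f.appLE V U hUV) ≫ hV.fromSpec := (hV.SpecMap_appLE_fromSpec f hU hUV).symm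
  have hopen : IsOpen (hU.fromSpec ⁻¹' {x : X | FE f x}) := by
    convert! isOpen_FE_Spec_noetherian (f.appLE V U hUV) (f.finiteType_appLE hV hU hUV) using 1
    ext q
    exact and_congr (flat_chart f _ _ _ hsq q) (E_chart f _ _ _ hsq q)
  refine ⟨hU.fromSpec '' (hU.fromSpec ⁻¹' {x : X | FE f x}),
    Set.image_preimage_subset _ _, hU.fromSpec.isOpenEmbedding.isOpenMap _ hopen, ?_⟩
  obtain ⟨q, rfl⟩ : x ∈ Set.range hU.fromSpec := by rw [hU.range_fromSpec]; exact hxU
  exact ⟨q, hx, rfl⟩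

section model

variable {A B : Type u} [CommRing A] [CommRing B] [Algebra A B]

theorem isPullback_model {R T : Type u} [CommRing R] [CommRing T] [Algebra R A] [Algebra R T]
    (e : B ≃ₐ[A] A ⊗[R] T) :
    IsPullback (Spec.map (CommRingCat.ofHom (S := B)
        (e.symm.toRingEquiv.toRingHom.comp (Algebra.TensorProduct.includeRight : T →ₐ[R] A ⊗[R] T).toRingHom)))
      (Spec.map (CommRingCat.ofHom (algebraMap A B)))
      (Spec.map (CommRingCat.ofHom (algebraMap R T))) (Spec.map (CommRingCat.ofHom (algebraMap R A))) := by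
  refine (isPullback_SpecMap_of_isPushout _ _ _ _ ?_).flip
  refine (CommRingCat.isPushout_tensorProduct R A T).of_iso (Iso.refl _) (Iso.refl _) (Iso.refl _)
    e.symm.toRingEquiv.toCommRingCatIso ?_ ?_ ?_ ?_
  · simp
  · simp
  · ext a
    exact e.symm.commutes a
  · rfl

/-- Geometric reducedness at a prime of a flat algebra spreads out. -/
theorem isOpen_E_of_flat [Algebra.FinitePresentation A B] [Module.Flat A B] :
    IsOpen {q : Spec (CommRingCat.of B) | E (Spec.map (CommRingCat.ofHom (algebraMap A B))) q} := by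
  obtain ⟨A₁, B₁, _, _, hA₁, hfl, hfp, ⟨e⟩⟩ := SrcDescent.exists_flat_model A B
  haveI : Algebra.FiniteType ℤ A₁ := (Subalgebra.fg_iff_finiteType A₁).1 hA₁
  haveI : IsNoetherianRing (CommRingCat.of A₁) := Algebra.FiniteType.isNoetherianRing ℤ A₁
  have sq := isPullback_model e
  let φ₁ := CommRingCat.ofHom (algebraMap A₁ B₁)
  haveI : Flat (Spec.map φ₁) := (HasRingHomProperty.Spec_iff (P := @Flat)).2 (RingHom.flat_algebraMap_iff.2 hfl)
  have hopen := isOpen_FE_Spec_noetherian φ₁ (RingHom.finiteType_algebraMap.2 inferInstance)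
  convert! hopen.preimage (Spec.map (CommRingCat.ofHom (S := B)
        (e.symm.toRingEquiv.toRingHom.comp (Algebra.TensorProduct.includeRight : B₁ →ₐ[A₁] A ⊗[A₁] B₁).toRingHom))).continuous
    using 1
  ext q
  exact (E_iff_of_isPullback sq q).trans ⟨fun h => ⟨Flat.stalkMap _ _, h⟩, fun h => h.2⟩

end model

/-- Openness for morphisms locally of finite presentation. -/
theorem isOpen_FE {X Y : Scheme.{u}} (f : X ⟶ Y) [LocallyOfFinitePresentation f] :
    IsOpen {x : X | FE f x} := by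
  rw [isOpen_iff_forall_mem_open]
  intro x hx
  obtain ⟨V, hV, hxV, -⟩ := exists_isAffineOpen_mem_and_subset (U := (⊤ : Y.Opens)) (x := f x) trivial
  let W : X.Opens := ⟨{x | (f.stalkMap x).hom.Flat}, FlatLocus.isOpen_flat_locus f⟩
  obtain ⟨U, hU, hxU, hUW⟩ := exists_isAffineOpen_mem_and_subset (U := W ⊓ f ⁻¹ᵁ V) (x := x) ⟨hx.1, hxV⟩
  have hUV : U ≤ f ⁻¹ᵁ V := fun z hz => (hUW hz).2
  have hsq : hU.fromSpec ≫ f = Spec.map (f.appLE V U hUV) ≫ hV.fromSpec := (hV.SpecMap_appLE_fromSpec f hU hUV).symm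
  letI : Algebra Γ(Y, V) Γ(X, U) := (f.appLE V U hUV).hom.toAlgebra
  haveI : Algebra.FinitePresentation Γ(Y, V) Γ(X, U) := f.finitePresentation_appLE hV hU hUV
  have hW : ∀ q : Spec Γ(X, U), (f.stalkMap (hU.fromSpec q)).hom.Flat := fun q =>
    (hUW (show hU.fromSpec q ∈ (U : Set X) from (Set.ext_iff.1 hU.range_fromSpec _).1 (Set.mem_range_self q))).1
  haveI : Flat (Spec.map (f.appLE V U hUV)) :=
    (Flat.iff_flat_stalkMap _).2 fun q => (flat_chart f _ _ _ hsq q).1 (hW q)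
  haveI : Module.Flat Γ(Y, V) Γ(X, U) := (HasRingHomProperty.Spec_iff (P := @Flat)).1 ‹_›
  have hopen : IsOpen (hU.fromSpec ⁻¹' {x : X | FE f x}) := by
    convert! isOpen_E_of_flat (A := Γ(Y, V)) (B := Γ(X, U)) using 1
    ext q
    exact ⟨fun h => (E_chart f _ _ _ hsq q).1 h.2, fun h => ⟨hW q, (E_chart f _ _ _ hsq q).2 h⟩⟩
  refine ⟨hU.fromSpec '' (hU.fromSpec ⁻¹' {x : X | FE f x}),
    Set.image_preimage_subset _ _, hU.fromSpec.isOpenEmbedding.isOpenMap _ hopen, ?_⟩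
  obtain ⟨q, rfl⟩ : x ∈ Set.range hU.fromSpec := by rw [hU.range_fromSpec]; exact hxU
  exact ⟨q, hx, rfl⟩

end Groth.Agent.GeomRedFlat5
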