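import Mathlib
import Groth.Prelude.Def_EGA43
import Groth.Agent.GeomRedFlat5.Open
import Groth.Agent.FlatDvrVC5.UnivOpenFlat
import Groth.Agent.QHomeo.OpenAt
import Groth.Agent.FDescent.UnivOpen
import Groth.Agent.H23.RedSub
import Groth.Agent.H23.FinCondSch

/-!
# Neighbourhoods of points with geometrically reduced fibres
-/

set_option autoImplicit false
set_option linter.style.haveILetI false

universe u

open CategoryTheory Limits AlgebraicGeometry

namespace Groth.Agent.GeomRedFlat5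

theorem lfp_of_noetherian {X Y : Scheme.{u}} (f : X ⟶ Y) [IsLocallyNoetherian Y] [LocallyOfFiniteType f] :
    LocallyOfFinitePresentation f := by
  rw [HasRingHomProperty.iff_appLE (P := @LocallyOfFinitePresentation)]
  intro U V e
  have hU : IsNoetherianRing Γ(Y, U) := IsLocallyNoetherian.component_noetherian U
  exact (RingHom.FinitePresentation.of_finiteType).1 (HasRingHomProperty.appLE @LocallyOfFiniteType f ‹_› U V e)

variable {X Y : Scheme.{u}} [IsLocallyNoetherian Y] (f : X ⟶ Y) [LocallyOfFiniteType f]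

theorem exists_FE_nhd (x : X)
    (hopen : ∀ z : ↥(f.fiber (f.base x)), f.asFiber x ∈ closure {z} →
      (∀ z' : ↥(f.fiber (f.base x)), z ∈ closure {z'} → z' = z) →
      EGA43.IsUnivOpenAt f ((f.fiberι (f.base x)).base z))
    (hred : E f x) (hy : _root_.IsReduced (Y.presheaf.stalk (f.base x))) :
    ∃ U : X.Opens, x ∈ U ∧ ∀ z ∈ U, FE f z :=
  ⟨⟨_, isOpen_FE_noetherian f⟩, ⟨FlatDvrVC5.flat_stalkMap_of_univOpen f x hopen hred hy, hred⟩, fun _ hz => hz⟩

omit [IsLocallyNoetherian Y] [LocallyOfFiniteType f] in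
theorem flat_of_range_subset {U : Scheme.{u}} (i : U ⟶ X) [IsOpenImmersion i] (h : ∀ z : U, (f.stalkMap (i.base z)).hom.Flat) :
    Flat (i ≫ f) := by
  refine (Flat.iff_flat_stalkMap _).2 fun z => ?_
  rw [Scheme.Hom.stalkMap_comp]
  exact (FlatLocus.flat_comp_isIso _ _).2 (h z)

theorem exists_flat_reduced_nhd (x : X)
    (hopen : ∀ z : ↥(f.fiber (f.base x)), f.asFiber x ∈ closure {z} →
      (∀ z' : ↥(f.fiber (f.base x)), z ∈ closure {z'} → z' = z) →
      EGA43.IsUnivOpenAt f ((f.fiberι (f.base x)).base z))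
    (hred : E f x) (hy : _root_.IsReduced (Y.presheaf.stalk (f.base x))) :
    ∃ U : X.Opens, x ∈ U ∧ Flat (U.ι ≫ f) ∧ IsReduced (U : Scheme.{u}) := by
  haveI := hy
  obtain ⟨U₁, hxU₁, hU₁⟩ := exists_FE_nhd f x hopen hred hy
  haveI : IsLocallyNoetherian X := LocallyOfFiniteType.isLocallyNoetherian f
  haveI := isReduced_stalk_noetherian f x (hU₁ x hxU₁).1 hred
  obtain ⟨U₂, hxU₂, hU₂⟩ := H23.FinCondSch.exists_reduced_nhd x
  refine ⟨U₁ ⊓ U₂, ⟨hxU₁, hxU₂⟩, flat_of_range_subset f _ fun z => (hU₁ _ z.2.1).1, ?_⟩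
  exact isReduced_of_isOpenImmersion (X.homOfLE (inf_le_right : U₁ ⊓ U₂ ≤ U₂))

theorem exists_univOpen_nhd (x : X)
    (hopen : ∀ z : ↥(f.fiber (f.base x)), f.asFiber x ∈ closure {z} →
      (∀ z' : ↥(f.fiber (f.base x)), z ∈ closure {z'} → z' = z) →
      EGA43.IsUnivOpenAt f ((f.fiberι (f.base x)).base z))
    (hred : E f x) :
    ∃ U : X.Opens, x ∈ U ∧ UniversallyOpen (U.ι ≫ f) ∧ ∀ x' : X, x' ∈ U → E f x' := by
  let j := Y.nilradical.subschemeι
  haveI : IsReduced Y.nilradical.subscheme := H23.RedSub.isReduced_nilradical Y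
  haveI : Surjective j := ⟨fun y => by
    show y ∈ Set.range j
    rw [Scheme.IdealSheafData.range_subschemeι]
    simp [Scheme.nilradical]⟩
  haveI : IsLocallyNoetherian Y.nilradical.subscheme := LocallyOfFiniteType.isLocallyNoetherian j
  let f₀ := pullback.snd f j
  let p := pullback.fst f j
  haveI : LocallyOfFiniteType f₀ := inferInstanceAs (LocallyOfFiniteType (pullback.snd f j))
  obtain ⟨x₀, hx₀⟩ : ∃ x₀, p x₀ = x := p.surjective x
  have sq := IsPullback.of_hasPullback f j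
  have hred₀ : E f₀ x₀ := (E_iff_of_isPullback sq x₀).2 (hx₀.symm ▸ hred)
  have hfx : f x = j (f₀ x₀) := by
    rw [← hx₀, ← Scheme.Hom.comp_apply, pullback.condition, Scheme.Hom.comp_apply]
  have hopen₀ : ∀ z : ↥(f₀.fiber (f₀.base x₀)), f₀.asFiber x₀ ∈ closure {z} →
      (∀ z' : ↥(f₀.fiber (f₀.base x₀)), z ∈ closure {z'} → z' = z) →
      EGA43.IsUnivOpenAt f₀ ((f₀.fiberι (f₀.base x₀)).base z) := by
    intro z hz hmax
    let w := f₀.fiberι (f₀ x₀) z
    have hm := FibDim.fibMax_of_baseChange sq ((FibDim.fibMax_fiberι_iff' f₀ z).2 hmax)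
    have hwx : p w ⤳ x := by
      have := ((specializes_iff_mem_closure.2 hz).map (f₀.fiberι (f₀ x₀)).continuous).map p.continuous
      rwa [Scheme.Hom.fiberι_asFiber, hx₀] at this
    have hfw : f (p w) = f x := by
      rw [← Scheme.Hom.comp_apply, pullback.condition, Scheme.Hom.comp_apply, hfx,
        FlatDvr.fiberι_apply_eq f₀ z]
    obtain ⟨v, hv⟩ : p w ∈ Set.range (f.fiberι (f.base x)) := by rw [Scheme.Hom.range_fiberι]; exact hfw
    have hemb := (f.fiberι (f.base x)).isEmbedding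
    have hU := hopen v (specializes_iff_mem_closure.1 (hemb.isInducing.specializes_iff.1 (by
        rw [hv, Scheme.Hom.fiberι_asFiber]; exact hwx)))
      ((FibDim.fibMax_fiberι_iff' f v).1 (hv.symm ▸ hm))
    intro Y' g w' hw'
    exact QHomeo.univOpenAt_openAt hU ((IsPullback.of_hasPullback f₀ g).paste_horiz sq) w'
      ((congrArg p.base hw').trans hv.symm)
  obtain ⟨U₀, hxU₀, hU₀⟩ := exists_FE_nhd f₀ x₀ hopen₀ hred₀ inferInstance
  obtain ⟨S, hS, hSU⟩ := p.isClosedEmbedding.isInducing.isOpen_iff.1 U₀.2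
  let U : X.Opens := ⟨S, hS⟩
  have hmem : ∀ z, p z ∈ U ↔ z ∈ U₀ := fun z => Set.ext_iff.1 hSU z
  refine ⟨U, hx₀ ▸ (hmem x₀).2 hxU₀, ?_, fun x' hx' => ?_⟩
  · let m : pullback (U.ι ≫ f) j ⟶ pullback f j :=
      (pullbackRightPullbackFstIso f j U.ι).inv ≫ pullback.snd U.ι p
    have hm₁ : m ≫ p = pullback.fst (U.ι ≫ f) j ≫ U.ι := by
      simp only [m, p, Category.assoc]
      rw [← pullback.condition, pullbackRightPullbackFstIso_inv_fst_assoc]
    have hm₂ : m ≫ f₀ = pullback.snd (U.ι ≫ f) j := by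
      simp only [m, f₀, p, Category.assoc, pullbackRightPullbackFstIso_inv_snd_snd]
    haveI : Flat (m ≫ f₀) := flat_of_range_subset f₀ m fun z => (hU₀ _ ((hmem _).1 (by
      rw [← Scheme.Hom.comp_apply, hm₁, Scheme.Hom.comp_apply]
      exact ((pullback.fst (U.ι ≫ f) j).base z).2))).1
    haveI : LocallyOfFinitePresentation (m ≫ f₀) := lfp_of_noetherian _
    haveI : UniversallyOpen (pullback.snd (U.ι ≫ f) j) := hm₂ ▸ UniversallyOpen.of_flat (m ≫ f₀)
    exact FDescent.universallyOpen_of_thickening (U.ι ≫ f) j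
  · obtain ⟨z, rfl⟩ := p.surjective x'
    exact (E_iff_of_isPullback sq z).1 (hU₀ z ((hmem z).1 hx')).2

end Groth.Agent.GeomRedFlat5
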