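import Mathlib
import Groth.Agent.GeomRedFlat5.Open

/-!
# Reducedness of a flat finitely presented algebra with geometrically reduced fibres over a reduced ring
-/

set_option autoImplicit false
set_option linter.style.haveILetI false

universe u

open CategoryTheory Limits AlgebraicGeometry TensorProduct

namespace Groth.Agent.GeomRedFlat5

theorem isReduced_atPrime_of_forall {B : Type u} [CommRing B] (P : Ideal B) [P.IsPrime]
    (h : ∀ z t : B, t ∉ P → ∀ n : ℕ, t * z ^ n = 0 → ∃ t' ∉ P, t' * z = 0) :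
    _root_.IsReduced (Localization.AtPrime P) := by
  refine ⟨fun y hy => ?_⟩
  obtain ⟨z, s, rfl⟩ := IsLocalization.exists_mk'_eq P.primeCompl y
  obtain ⟨n, hn⟩ := hy
  rw [← IsLocalization.mk'_pow, IsLocalization.mk'_eq_zero_iff] at hn
  obtain ⟨⟨t, ht⟩, htz⟩ := hn
  obtain ⟨t', ht', ht'z⟩ := h z t ht n htz
  exact (IsLocalization.mk'_eq_zero_iff _ _).2 ⟨⟨t', ht'⟩, ht'z⟩

section

variable {A B : Type u} [CommRing A] [CommRing B] [Algebra A B]

theorem isReduced_stalk_Spec_noetherian [IsNoetherianRing A] [_root_.IsReduced A] [Algebra.FiniteType A B]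
    [Module.Flat A B] (P : PrimeSpectrum B) (hE : E (Spec.map (CommRingCat.ofHom (algebraMap A B))) P) :
    _root_.IsReduced (Localization.AtPrime P.asIdeal) := by
  let φ := CommRingCat.ofHom (algebraMap A B)
  haveI : LocallyOfFiniteType (Spec.map φ) :=
    (HasRingHomProperty.Spec_iff (P := @LocallyOfFiniteType)).2 (RingHom.finiteType_algebraMap.2 inferInstance)
  haveI : Flat (Spec.map φ) := (HasRingHomProperty.Spec_iff (P := @Flat)).2 (RingHom.flat_algebraMap_iff.2 ‹_›)
  haveI : IsNoetherianRing (CommRingCat.of A) := ‹_›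
  haveI : _root_.IsReduced (CommRingCat.of A) := ‹_›
  have := isReduced_stalk_noetherian (Spec.map φ) P (Flat.stalkMap _ _) hE
  exact (FBaseLib.isReduced_iff_of_bijective (Spec.stalkIso (CommRingCat.of B) P).hom
    (ConcreteCategory.bijective_of_isIso _)).1 this

theorem E_tensor {A' : Type u} [CommRing A'] [Algebra A A'] (Q : PrimeSpectrum (A' ⊗[A] B)) (P : PrimeSpectrum B)
    (hQ : PrimeSpectrum.comap (Algebra.TensorProduct.includeRight : B →ₐ[A] A' ⊗[A] B).toRingHom Q = P)
    (hE : E (Spec.map (CommRingCat.ofHom (algebraMap A B))) P) :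
    E (Spec.map (CommRingCat.ofHom (algebraMap A' (A' ⊗[A] B)))) Q := by
  subst hQ
  exact (E_iff_of_isPullback (isPullback_tensor A A' B) Q).2 hE

/-- The map from the model. -/
noncomputable def modelMap {R T : Type u} [CommRing R] [CommRing T] [Algebra R A] [Algebra R T] (e : B ≃ₐ[A] A ⊗[R] T) :
    T →+* B :=
  e.symm.toRingEquiv.toRingHom.comp (Algebra.TensorProduct.includeRight : T →ₐ[R] A ⊗[R] T).toRingHom

theorem exists_ann_of_model {R T : Type u} [CommRing R] [CommRing T] [Algebra R A] [Algebra R T]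
    [IsNoetherianRing R] [_root_.IsReduced R] [Algebra.FiniteType R T] [Module.Flat R T]
    (e : B ≃ₐ[A] A ⊗[R] T) (hinj : Function.Injective (algebraMap R A)) (P : PrimeSpectrum B)
    (hE : E (Spec.map (CommRingCat.ofHom (algebraMap A B))) P)
    (z t : T) (ht : modelMap e t ∉ P.asIdeal) (n : ℕ) (h : modelMap e t * modelMap e z ^ n = 0) :
    ∃ u ∉ P.asIdeal, u * modelMap e z = 0 := by
  have hχ : Function.Injective (modelMap e) :=
    e.symm.injective.comp (Algebra.TensorProduct.includeRight_injective hinj)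
  let P₂ : PrimeSpectrum T := PrimeSpectrum.comap (modelMap e) P
  have hE₂ : E (Spec.map (CommRingCat.ofHom (algebraMap R T))) P₂ :=
    (E_iff_of_isPullback (isPullback_model e) P).1 hE
  haveI := isReduced_stalk_Spec_noetherian P₂ hE₂
  have h0 : t * z ^ n = 0 := hχ (by rw [map_mul, map_pow, map_zero]; exact h)
  have hnil : IsNilpotent (algebraMap T (Localization.AtPrime P₂.asIdeal) z) := by
    refine ⟨n, ?_⟩
    rw [← map_pow, IsLocalization.map_eq_zero_iff P₂.asIdeal.primeCompl]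
    exact ⟨⟨t, ht⟩, h0⟩
  obtain ⟨⟨u, hu⟩, hu0⟩ := (IsLocalization.map_eq_zero_iff P₂.asIdeal.primeCompl _ _).1 hnil.eq_zero
  exact ⟨modelMap e u, hu, by rw [← map_mul, show u * z = 0 from hu0, map_zero]⟩

theorem mem_range_modelMap {R R' T : Type u} [CommRing R] [CommRing R'] [CommRing T] [Algebra R A] [Algebra R T]
    [Algebra R R'] [Algebra R' A] [IsScalarTower R R' A] (e : B ≃ₐ[A] A ⊗[R] T) (y : B) (S : Finset (A × T))
    (hS : ∀ i ∈ S, ∃ a : R', algebraMap R' A a = i.1) (hy : e y = ∑ i ∈ S, i.1 ⊗ₜ[R] i.2) :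
    ∃ w, modelMap (e.trans (Algebra.TensorProduct.cancelBaseChange R R' A A T).symm) w = y := by
  rw [← e.symm_apply_apply y, hy, map_sum]
  refine Finset.sum_induction _ (fun y => ∃ w, modelMap _ w = y) ?_ ⟨0, map_zero _⟩ fun i hi => ?_
  · rintro _ _ ⟨w₁, rfl⟩ ⟨w₂, rfl⟩
    exact ⟨w₁ + w₂, map_add _ _ _⟩
  obtain ⟨a, ha⟩ := hS i hi
  refine ⟨a ⊗ₜ[R] i.2, ?_⟩
  show e.symm (Algebra.TensorProduct.cancelBaseChange R R' A A T (1 ⊗ₜ (a ⊗ₜ[R] i.2))) = _
  rw [Algebra.TensorProduct.cancelBaseChange_tmul, Algebra.smul_def, mul_one, ha]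

/-- Reducedness over a reduced ring. -/
theorem isReduced_atPrime_of_reduced [_root_.IsReduced A] [Algebra.FinitePresentation A B] [Module.Flat A B]
    (P : PrimeSpectrum B) (hE : E (Spec.map (CommRingCat.ofHom (algebraMap A B))) P) :
    _root_.IsReduced (Localization.AtPrime P.asIdeal) := by
  classical
  obtain ⟨A₁, B₁, _, _, hA₁, hfl, hfp, ⟨e⟩⟩ := SrcDescent.exists_flat_model A B
  haveI : Algebra.FiniteType ℤ A₁ := (Subalgebra.fg_iff_finiteType A₁).1 hA₁
  haveI : IsNoetherianRing A₁ := Algebra.FiniteType.isNoetherianRing ℤ A₁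
  refine isReduced_atPrime_of_forall _ fun z t ht n htz => ?_
  obtain ⟨Sz, hSz⟩ := TensorProduct.exists_finset (e z)
  obtain ⟨St, hSt⟩ := TensorProduct.exists_finset (e t)
  let A₂ : Subalgebra A₁ A := Algebra.adjoin A₁ ((Sz ∪ St).image Prod.fst : Set A)
  haveI : Algebra.FiniteType A₁ A₂ := (Subalgebra.fg_iff_finiteType A₂).1 (Subalgebra.fg_adjoin_finset _)
  haveI : IsNoetherianRing A₂ := Algebra.FiniteType.isNoetherianRing A₁ A₂
  haveI : _root_.IsReduced A₂ := isReduced_of_injective A₂.val Subtype.val_injective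
  have hmem : ∀ i ∈ Sz ∪ St, ∃ a : A₂, algebraMap A₂ A a = i.1 := fun i hi =>
    ⟨⟨i.1, Algebra.subset_adjoin (Finset.mem_image_of_mem _ hi)⟩, rfl⟩
  obtain ⟨z', rfl⟩ := mem_range_modelMap (R' := A₂) e z Sz (fun i hi => hmem i (Finset.mem_union_left _ hi)) hSz
  obtain ⟨t', rfl⟩ := mem_range_modelMap (R' := A₂) e t St (fun i hi => hmem i (Finset.mem_union_right _ hi)) hSt
  exact exists_ann_of_model _ Subtype.val_injective P hE z' t' ht n htz

theorem eq_zero_of_baseChange [Algebra.FinitePresentation A B] [Module.Flat A B]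
    {A' L : Type u} [CommRing A'] [Algebra A A'] [_root_.IsReduced A'] [CommRing L] [IsLocalRing L] [Algebra A L]
    (l : A' →ₐ[A] L) (g : B →ₐ[A] L) (P : PrimeSpectrum B) (hg : ∀ b, g b ∈ IsLocalRing.maximalIdeal L ↔ b ∈ P.asIdeal)
    (hE : E (Spec.map (CommRingCat.ofHom (algebraMap A B))) P)
    (z t : B) (ht : t ∉ P.asIdeal) (n : ℕ) (htz : t * z ^ n = 0) : g z = 0 := by
  let ψ : A' ⊗[A] B →ₐ[A] L := Algebra.TensorProduct.lift l g fun _ _ => Commute.all _ _
  have hψ : ∀ b : B, ψ (1 ⊗ₜ b) = g b := fun b => by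
    rw [Algebra.TensorProduct.lift_tmul, map_one, one_mul]
  let P' : PrimeSpectrum (A' ⊗[A] B) :=
    ⟨(IsLocalRing.maximalIdeal L).comap ψ.toRingHom, Ideal.IsPrime.comap _⟩
  have hP' : ∀ b : B, (1 : A') ⊗ₜ[A] b ∈ P'.asIdeal ↔ b ∈ P.asIdeal := fun b => by
    show ψ (1 ⊗ₜ b) ∈ IsLocalRing.maximalIdeal L ↔ _
    rw [hψ, hg]
  have hPe : PrimeSpectrum.comap (Algebra.TensorProduct.includeRight : B →ₐ[A] A' ⊗[A] B).toRingHom P' = P :=
    PrimeSpectrum.ext (Ideal.ext fun b => hP' b)
  have hE' : E (Spec.map (CommRingCat.ofHom (algebraMap A' (A' ⊗[A] B)))) P' :=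
    E_tensor P' P hPe hE
  haveI := isReduced_atPrime_of_reduced P' hE'
  have hnil : IsNilpotent (algebraMap (A' ⊗[A] B) (Localization.AtPrime P'.asIdeal) (1 ⊗ₜ z)) := by
    refine ⟨n, ?_⟩
    rw [← map_pow, IsLocalization.map_eq_zero_iff P'.asIdeal.primeCompl]
    exact ⟨⟨1 ⊗ₜ t, fun h => ht ((hP' t).1 h)⟩, by
      rw [Algebra.TensorProduct.tmul_pow, one_pow, Algebra.TensorProduct.tmul_mul_tmul, mul_one, htz, tmul_zero]⟩
  obtain ⟨⟨u, hu⟩, hu0⟩ := (IsLocalization.map_eq_zero_iff P'.asIdeal.primeCompl _ _).1 hnil.eq_zero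
  have h1 := congrArg ψ (show u * (1 ⊗ₜ z) = 0 from hu0)
  rw [map_mul, map_zero, hψ] at h1
  exact (IsLocalRing.notMem_maximalIdeal.1 hu : IsUnit (ψ u)).mul_right_eq_zero.1 h1

theorem localRingHom_algebraMap (P : Ideal B) [P.IsPrime] (a : A) :
    Localization.localRingHom (P.comap (algebraMap A B)) P (algebraMap A B) rfl
      (algebraMap A (Localization.AtPrime (P.comap (algebraMap A B))) a) = algebraMap A (Localization.AtPrime P) a := by
  rw [Localization.localRingHom_to_map, ← IsScalarTower.algebraMap_apply]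

/-- Reducedness over a reduced local ring of the base. -/
theorem isReduced_atPrime [Algebra.FinitePresentation A B] [Module.Flat A B] (P : PrimeSpectrum B)
    (hA : _root_.IsReduced (Localization.AtPrime (P.asIdeal.comap (algebraMap A B))))
    (hE : E (Spec.map (CommRingCat.ofHom (algebraMap A B))) P) :
    _root_.IsReduced (Localization.AtPrime P.asIdeal) := by
  refine isReduced_atPrime_of_forall _ fun z t ht n htz => ?_
  have h := eq_zero_of_baseChange (A' := Localization.AtPrime (P.asIdeal.comap (algebraMap A B)))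
    ({ Localization.localRingHom (P.asIdeal.comap (algebraMap A B)) P.asIdeal (algebraMap A B) rfl with
      commutes' := localRingHom_algebraMap P.asIdeal } : _ →ₐ[A] Localization.AtPrime P.asIdeal)
    (IsScalarTower.toAlgHom A B (Localization.AtPrime P.asIdeal)) P
    (fun b => IsLocalization.AtPrime.to_map_mem_maximal_iff _ P.asIdeal b) hE z t ht n htz
  obtain ⟨⟨t', ht'⟩, h2⟩ := (IsLocalization.map_eq_zero_iff P.asIdeal.primeCompl _ z).1 h
  exact ⟨t', ht', h2⟩

end

/-- A flat finitely presented morphism with geometrically reduced fibres preserves reducedness. -/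
theorem isReduced_stalk {X Y : Scheme.{u}} (f : X ⟶ Y) [Flat f] [LocallyOfFinitePresentation f] (x : X)
    (hy : _root_.IsReduced (Y.presheaf.stalk (f.base x))) (hE : E f x) : _root_.IsReduced (X.presheaf.stalk x) := by
  obtain ⟨V, hV, hxV, -⟩ := exists_isAffineOpen_mem_and_subset (U := (⊤ : Y.Opens)) (x := f x) trivial
  obtain ⟨U, hU, hxU, hUV⟩ := exists_isAffineOpen_mem_and_subset (U := f ⁻¹ᵁ V) (x := x) hxV
  have hsq : hU.fromSpec ≫ f = Spec.map (f.appLE V U hUV) ≫ hV.fromSpec := (hV.SpecMap_appLE_fromSpec f hU hUV).symm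
  letI : Algebra Γ(Y, V) Γ(X, U) := (f.appLE V U hUV).hom.toAlgebra
  haveI : Algebra.FinitePresentation Γ(Y, V) Γ(X, U) := f.finitePresentation_appLE hV hU hUV
  haveI : Module.Flat Γ(Y, V) Γ(X, U) := f.flat_appLE hV hU hUV
  obtain ⟨q, rfl⟩ : x ∈ Set.range hU.fromSpec := by rw [hU.range_fromSpec]; exact hxU
  have hred : ∀ {C : CommRingCat.{u}} {W : Scheme.{u}} (i : Spec C ⟶ W) [IsOpenImmersion i] (s : PrimeSpectrum C),
      _root_.IsReduced (W.presheaf.stalk (i.base s)) ↔ _root_.IsReduced (Localization.AtPrime s.asIdeal) :=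
    fun {C} {W} i _ s => (FBaseLib.isReduced_iff_of_bijective (i.stalkMap (s : Spec C)) (AssLib.bijective_stalkMap i (s : Spec C))).trans
      (FBaseLib.isReduced_iff_of_bijective (Spec.stalkIso C s).hom (ConcreteCategory.bijective_of_isIso _))
  rw [hred hU.fromSpec q]
  refine isReduced_atPrime (A := Γ(Y, V)) q ?_ ((E_chart f _ _ _ hsq q).1 hE)
  have hfx : f (hU.fromSpec q) = hV.fromSpec (Spec.map (f.appLE V U hUV) q) := by
    rw [← Scheme.Hom.comp_apply, hsq, Scheme.Hom.comp_apply]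
  exact (hred hV.fromSpec _).1 (hfx ▸ hy)

end Groth.Agent.GeomRedFlat5
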